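import Cfsg.Agent.LieClassical.HermBasic
import Cfsg.Agent.LieClassical.SympCount

/-!
# Hyperbolic pairs fixed by an anti-unitary involution (helper373), characteristic two
-/

set_option autoImplicit false

namespace Cfsg.Agent.H373.HermFrame

open Cfsg Module Cfsg.Agent.LieClassical.HermBasic

variable {F : Type*} [Field F] [Fintype F] {q n : ℕ}

/-- An anti-unitary involution. -/
structure AU (q : ℕ) (J : (Fin n → F) → (Fin n → F)) : Prop where
  add : ∀ v w, J (v + w) = J v + J w
  smul : ∀ (c : F) v, J (c • v) = c ^ q • J v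
  invol : ∀ v, J (J v) = v
  herm : ∀ v w, hermForm n F q (J v) (J w) = hermForm n F q v w ^ q

/-- Non-degenerate subspaces. -/
def ND (q : ℕ) (W : Submodule F (Fin n → F)) : Prop :=
  ∀ w ∈ W, (∀ w' ∈ W, hermForm n F q w w' = 0) → w = 0

theorem card_isotropic (hF : Fintype.card F = q ^ 2) {W I : Submodule F (Fin n → F)} (hW : ND q W)
    (hI : I ≤ W) (hiso : ∀ x ∈ I, ∀ y ∈ I, hermForm n F q x y = 0) :
    Nat.card I * Nat.card I ≤ Nat.card W := by
  classical
  let I' : Submodule F W := I.comap W.subtype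
  have e1 : Nat.card I' = Nat.card I := by
    apply Nat.card_congr
    exact (Submodule.comapSubtypeEquivOfLe hI).toEquiv
  -- functionals on `W / I'`
  have hfun : ∀ i : I, ∃ f : (W ⧸ I') →ₗ[F] F, ∀ w : W, f (I'.mkQ w) = hermForm n F q w i := by
    intro i
    let g : W →ₗ[F] F :=
      { toFun := fun w => hermForm n F q w i
        map_add' := fun a b => herm_add_left _ _ _
        map_smul' := fun c a => herm_smul_left _ _ _ }
    have hg : I' ≤ LinearMap.ker g := by
      intro w hw
      exact hiso _ hw _ i.2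
    exact ⟨I'.liftQ g hg, fun w => rfl⟩
  choose f hf using hfun
  have hinj : Function.Injective f := by
    intro i j hij
    have h1 : ∀ w : W, hermForm n F q (w : Fin n → F) ((i : Fin n → F) - j) = 0 := by
      intro w
      rw [herm_sub_right hF, ← hf i w, ← hf j w, hij, sub_self]
    have h2 : ((i : Fin n → F) - j) = 0 := by
      apply hW _ (Submodule.sub_mem _ (hI i.2) (hI j.2))
      intro w' hw'
      exact herm_eq_zero_swap hF (h1 ⟨w', hw'⟩)
    exact Subtype.ext (sub_eq_zero.1 h2)
  have hfin : Finite ((W ⧸ I') →ₗ[F] F) := by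
    have : Finite ((W ⧸ I') → F) := inferInstance
    exact Finite.of_injective (fun f : (W ⧸ I') →ₗ[F] F => (f : (W ⧸ I') → F)) DFunLike.coe_injective
  have h2 : Nat.card I ≤ Nat.card ((W ⧸ I') →ₗ[F] F) := Nat.card_le_card_of_injective f hinj
  have h3 : Nat.card ((W ⧸ I') →ₗ[F] F) = Nat.card (W ⧸ I') := by
    rw [Module.natCard_eq_pow_finrank (K := F) (V := (W ⧸ I') →ₗ[F] F),
      Module.natCard_eq_pow_finrank (K := F) (V := (W ⧸ I'))]
    congr 1
    exact Subspace.dual_finrank_eq
  have h4 : Nat.card W = Nat.card (W ⧸ I') * Nat.card I' := by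
    rw [Submodule.card_eq_card_quotient_mul_card I', mul_comm]
  rw [h3] at h2
  rw [h4, e1]
  exact Nat.mul_le_mul_right _ h2


omit [Fintype F] in
theorem AU.zero {J : (Fin n → F) → (Fin n → F)} (hJ : AU q J) : J 0 = 0 := by
  have h := hJ.add 0 0
  rw [add_zero] at h
  exact left_eq_add.1 h

theorem AU.herm_fix (hF : Fintype.card F = q ^ 2) {J : (Fin n → F) → (Fin n → F)} (hJ : AU q J)
    {v w : Fin n → F} (hv : J v = v) (hw : J w = w) :
    hermForm n F q v w ^ q = hermForm n F q v w ∧ hermForm n F q w v = hermForm n F q v w := by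
  have h := hJ.herm v w
  rw [hv, hw] at h
  exact ⟨h.symm, (herm_swap hF v w).symm ▸ h.symm⟩

/-- Cardinality of the fixed points of `J` on `W`. -/
theorem card_le_fix [CharP F 2] {J : (Fin n → F) → (Fin n → F)} (hJ : AU q J)
    {W : Submodule F (Fin n → F)} (hJW : ∀ w ∈ W, J w ∈ W) :
    Nat.card W ≤ Nat.card {w : Fin n → F // w ∈ W ∧ J w = w} * Nat.card {w : Fin n → F // w ∈ W ∧ J w = w} := by
  classical
  have h2 : ∀ v : Fin n → F, v + v = 0 := fun v => by
    funext i; exact CharTwo.add_self_eq_zero (v i)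
  let φ : W →+ (Fin n → F) :=
    { toFun := fun w => w + J w
      map_zero' := by
        show (0 : Fin n → F) + J 0 = 0
        rw [hJ.zero, add_zero]
      map_add' := fun a b => by
        show (a : Fin n → F) + b + J (a + b) = a + J a + (b + J b)
        rw [hJ.add]
        abel }
  have hcard : Nat.card W = Nat.card φ.range * Nat.card φ.ker := by
    rw [← Nat.card_congr (QuotientAddGroup.quotientKerEquivRange φ).toEquiv]
    exact AddSubgroup.card_eq_card_quotient_mul_card_addSubgroup _
  have h3 : Nat.card φ.ker ≤ Nat.card {w : Fin n → F // w ∈ W ∧ J w = w} := by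
    refine Nat.card_le_card_of_injective (fun w => ⟨(w : W), (w : W).2, ?_⟩) ?_
    · have h : ((w : W) : Fin n → F) + J (w : W) = 0 := w.2
      have h' := h2 ((w : W) : Fin n → F)
      exact (add_left_cancel (h'.trans h.symm)).symm
    · intro a b hab
      have := congrArg Subtype.val hab
      exact Subtype.ext (Subtype.ext this)
  have h4 : Nat.card φ.range ≤ Nat.card {w : Fin n → F // w ∈ W ∧ J w = w} := by
    refine Nat.card_le_card_of_injective (fun w => ⟨(w : Fin n → F), ?_, ?_⟩) ?_
    · obtain ⟨x, hx⟩ := w.2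
      rw [← hx]
      exact Submodule.add_mem _ x.2 (hJW _ x.2)
    · obtain ⟨x, hx⟩ := w.2
      rw [← hx]
      show J ((x : Fin n → F) + J x) = x + J x
      rw [hJ.add, hJ.invol, add_comm]
    · intro a b hab
      have := congrArg Subtype.val hab
      exact Subtype.ext this
  rw [hcard]
  exact Nat.mul_le_mul h4 h3

/-- A hyperbolic pair fixed by `J`. -/
theorem exists_pair [CharP F 2] (hF : Fintype.card F = q ^ 2) {J : (Fin n → F) → (Fin n → F)} (hJ : AU q J)
    {W : Submodule F (Fin n → F)} (hW : ND q W) (hJW : ∀ w ∈ W, J w ∈ W) (hd : 3 ≤ finrank F W) :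
    ∃ a ∈ W, ∃ b ∈ W, J a = a ∧ J b = b ∧ hermForm n F q a a = 0 ∧ hermForm n F q b b = 0 ∧
      hermForm n F q a b = 1 ∧ hermForm n F q b a = 1 := by
  classical
  by_contra hno
  -- the fixed points
  let V₀ : AddSubgroup (Fin n → F) :=
    { carrier := {w | w ∈ W ∧ J w = w}
      zero_mem' := ⟨W.zero_mem, hJ.zero⟩
      add_mem' := fun {a b} ha hb => ⟨W.add_mem ha.1 hb.1, by rw [hJ.add, ha.2, hb.2]⟩
      neg_mem' := fun {a} ha => ⟨W.neg_mem ha.1, by
        have h := hJ.smul (-1) a
        rw [neg_one_smul, neg_pow_q hF, one_pow, neg_one_smul, ha.2] at h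
        exact h⟩ }
  have hV₀ : Nat.card W ≤ Nat.card V₀ * Nat.card V₀ := card_le_fix hJ hJW
  let ψ : V₀ →+ F :=
    { toFun := fun w => hermForm n F q w w
      map_zero' := herm_zero_left _
      map_add' := fun a b => by
        show hermForm n F q ((a : Fin n → F) + b) ((a : Fin n → F) + b) = _
        rw [herm_add_left, herm_add_right hF, herm_add_right hF]
        have h := (hJ.herm_fix hF a.2.2 b.2.2).2
        rw [h]
        have h2 := CharTwo.add_self_eq_zero (hermForm n F q (a : Fin n → F) b)
        linear_combination h2 }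
  have hcard : Nat.card V₀ = Nat.card ψ.range * Nat.card ψ.ker := by
    rw [← Nat.card_congr (QuotientAddGroup.quotientKerEquivRange ψ).toEquiv]
    exact AddSubgroup.card_eq_card_quotient_mul_card_addSubgroup _
  have hrange : Nat.card ψ.range ≤ q := by
    rw [← card_fixed hF]
    refine Nat.card_le_card_of_injective (fun w => ⟨(w : F), ?_⟩) ?_
    · obtain ⟨x, hx⟩ := w.2
      rw [← hx]
      exact herm_self_pow hF _
    · intro a b hab
      have := congrArg Subtype.val hab
      exact Subtype.ext this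
  -- the isotropic fixed points
  have hK : ∀ a ∈ ψ.ker, ∀ b ∈ ψ.ker, hermForm n F q ((a : V₀) : Fin n → F) ((b : V₀) : Fin n → F) = 0 := by
    intro a ha b hb
    by_contra hne
    apply hno
    set h := hermForm n F q ((a : V₀) : Fin n → F) ((b : V₀) : Fin n → F) with hh
    obtain ⟨h1, h2⟩ := hJ.herm_fix hF a.2.2 b.2.2
    rw [← hh] at h1 h2
    have h3 : (h⁻¹) ^ q = h⁻¹ := by rw [inv_pow, h1]
    refine ⟨a, a.2.1, h⁻¹ • b, W.smul_mem _ b.2.1, a.2.2, ?_, ha, ?_, ?_, ?_⟩
    · rw [hJ.smul, h3, b.2.2]
    · rw [herm_smul_left, herm_smul_right]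
      have : hermForm n F q (b : Fin n → F) b = 0 := hb
      rw [this, mul_zero, mul_zero]
    · rw [herm_smul_right, h3, ← hh, inv_mul_cancel₀ hne]
    · rw [herm_smul_left, h2, inv_mul_cancel₀ hne]
  -- the span
  let K : Set (Fin n → F) := {v | ∃ a ∈ ψ.ker, ((a : V₀) : Fin n → F) = v}
  let I : Submodule F (Fin n → F) := Submodule.span F K
  have hIW : I ≤ W := by
    refine Submodule.span_le.2 ?_
    rintro _ ⟨a, -, rfl⟩
    exact a.2.1
  have hIiso : ∀ x ∈ I, ∀ y ∈ I, hermForm n F q x y = 0 := by
    intro x hx y hy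
    induction hx using Submodule.span_induction with
    | mem x hx =>
      obtain ⟨a, ha, rfl⟩ := hx
      induction hy using Submodule.span_induction with
      | mem y hy =>
        obtain ⟨b, hb, rfl⟩ := hy
        exact hK a ha b hb
      | zero => exact herm_zero_right hF _
      | add x y _ _ h1 h2 => rw [herm_add_right hF, h1, h2, add_zero]
      | smul c x _ h => rw [herm_smul_right, h, mul_zero]
    | zero => exact herm_zero_left _
    | add x y _ _ h1 h2 => rw [herm_add_left, h1, h2, add_zero]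
    | smul c x _ h => rw [herm_smul_left, h, mul_zero]
  have h1 := card_isotropic hF hW hIW hIiso
  -- `|K|^2 ≤ |I|`
  have h2 : Nat.card ψ.ker * Nat.card ψ.ker ≤ Nat.card I := by
    obtain ⟨ω, hω⟩ := exists_not_fixed hF
    rw [← Nat.card_prod]
    refine Nat.card_le_card_of_injective
      (fun p => ⟨((p.1 : V₀) : Fin n → F) + ω • ((p.2 : V₀) : Fin n → F), ?_⟩) ?_
    · exact I.add_mem (Submodule.subset_span ⟨p.1, p.1.2, rfl⟩)
        (I.smul_mem _ (Submodule.subset_span ⟨p.2, p.2.2, rfl⟩))
    · rintro ⟨a, b⟩ ⟨a', b'⟩ hab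
      have e := congrArg Subtype.val hab
      simp only at e
      have e' := congrArg J e
      rw [hJ.add, hJ.add, hJ.smul, hJ.smul, (a : V₀).2.2, (b : V₀).2.2, (a' : V₀).2.2, (b' : V₀).2.2] at e'
      have e3 : (ω - ω ^ q) • (((b : V₀) : Fin n → F) - b') = 0 := by
        rw [smul_sub, sub_smul, sub_smul]
        have h5 : (((a : V₀) : Fin n → F) + ω • ((b : V₀) : Fin n → F)) -
          (((a : V₀) : Fin n → F) + ω ^ q • ((b : V₀) : Fin n → F)) =
          (((a' : V₀) : Fin n → F) + ω • ((b' : V₀) : Fin n → F)) -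
          (((a' : V₀) : Fin n → F) + ω ^ q • ((b' : V₀) : Fin n → F)) := by rw [e, e']
        rw [add_sub_add_left_eq_sub, add_sub_add_left_eq_sub] at h5
        rw [h5, sub_self]
      have e4 : ((b : V₀) : Fin n → F) = b' := by
        rcases smul_eq_zero.1 e3 with h | h
        · exact absurd (sub_eq_zero.1 h).symm hω
        · exact sub_eq_zero.1 h
      rw [e4] at e
      have e5 := add_right_cancel e
      have e6 : a = a' := Subtype.ext (Subtype.ext e5)
      have e7 : b = b' := Subtype.ext (Subtype.ext e4)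
      rw [e6, e7]
  have hWc : Nat.card W = q ^ (2 * finrank F W) := by
    rw [Module.natCard_eq_pow_finrank (K := F) (V := W), Nat.card_eq_fintype_card, hF, ← pow_mul]
  set d := finrank F W with hdd
  have h2q := two_le hF
  -- `q ^ (d - 1) ≤ |K|`
  have h3 : q ^ d ≤ Nat.card V₀ := by
    by_contra hlt
    push Not at hlt
    have : Nat.card V₀ * Nat.card V₀ < q ^ d * q ^ d := Nat.mul_lt_mul'' hlt hlt
    rw [← pow_add, ← two_mul, ← hWc] at this
    omega
  have h4 : q ^ (d - 1) ≤ Nat.card ψ.ker := by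
    have h5 : q ^ d ≤ q * Nat.card ψ.ker := h3.trans (hcard.le.trans (Nat.mul_le_mul_right _ hrange))
    have h6 : q ^ d = q * q ^ (d - 1) := by
      rw [← pow_succ']
      congr 1
      omega
    rw [h6] at h5
    exact Nat.le_of_mul_le_mul_left h5 (by omega)
  have h5 : (q ^ (d - 1) * q ^ (d - 1)) * (q ^ (d - 1) * q ^ (d - 1)) ≤ q ^ (2 * d) := by
    rw [← hWc]
    refine le_trans ?_ h1
    exact Nat.mul_le_mul ((Nat.mul_le_mul h4 h4).trans h2) ((Nat.mul_le_mul h4 h4).trans h2)
  rw [← pow_add, ← pow_add] at h5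
  have h6 := (Nat.pow_le_pow_iff_right (by omega : 1 < q)).1 h5
  omega


/-- A hyperbolic frame of `W`, fixed by `J`. -/
structure Frame (q : ℕ) (J : (Fin n → F) → (Fin n → F)) (W : Submodule F (Fin n → F)) {m : ℕ}
    (a b : Fin m → Fin n → F) (c : Fin n → F) : Prop where
  memA : ∀ i, a i ∈ W
  memB : ∀ i, b i ∈ W
  memC : c ∈ W
  fixA : ∀ i, J (a i) = a i
  fixB : ∀ i, J (b i) = b i
  fixC : J c = c
  haa : ∀ i j, hermForm n F q (a i) (a j) = 0
  hbb : ∀ i j, hermForm n F q (b i) (b j) = 0
  hab : ∀ i j, hermForm n F q (a i) (b j) = if i = j then 1 else 0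
  hba : ∀ i j, hermForm n F q (b i) (a j) = if i = j then 1 else 0
  hca : ∀ i, hermForm n F q c (a i) = 0
  hcb : ∀ i, hermForm n F q c (b i) = 0
  hac : ∀ i, hermForm n F q (a i) c = 0
  hbc : ∀ i, hermForm n F q (b i) c = 0
  hcc : hermForm n F q c c ≠ 0
  decomp : ∀ w ∈ W, w = ∑ i, hermForm n F q w (b i) • a i + ∑ i, hermForm n F q w (a i) • b i +
    (hermForm n F q w c / hermForm n F q c c) • c

theorem exists_frame [CharP F 2] (hF : Fintype.card F = q ^ 2) {J : (Fin n → F) → (Fin n → F)} (hJ : AU q J)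
    (m : ℕ) : ∀ (W : Submodule F (Fin n → F)), ND q W → (∀ w ∈ W, J w ∈ W) → finrank F W = 2 * m + 1 →
      ∃ (a b : Fin m → Fin n → F) (c : Fin n → F), Frame q J W a b c := by
  induction m with
  | zero =>
    intro W hW hJW hd
    have h1 := card_le_fix hJ hJW
    have hWc : Nat.card W = q ^ 2 := by
      rw [Module.natCard_eq_pow_finrank (K := F) (V := W), Nat.card_eq_fintype_card, hF, hd]
      simp
    have h2 : ∃ c ∈ W, J c = c ∧ c ≠ 0 := by
      by_contra hno
      push Not at hno
      have h3 : Nat.card {w : Fin n → F // w ∈ W ∧ J w = w} = 1 := by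
        rw [Nat.card_eq_one_iff_unique]
        refine ⟨⟨fun x y => Subtype.ext ?_⟩, ⟨0, W.zero_mem, hJ.zero⟩⟩
        rw [hno _ x.2.1 x.2.2, hno _ y.2.1 y.2.2]
      rw [h3, hWc] at h1
      have := two_le hF
      nlinarith
    obtain ⟨c, hc, hJc, hc0⟩ := h2
    have h3 : ∀ w ∈ W, ∃ t : F, t • c = w := by
      intro w hw
      have h4 := (finrank_eq_one_iff_of_nonzero' (⟨c, hc⟩ : W) (by
        intro h; exact hc0 (congrArg Subtype.val h))).1 (by rw [hd]) ⟨w, hw⟩
      obtain ⟨t, ht⟩ := h4
      exact ⟨t, congrArg Subtype.val ht⟩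
    have hcc : hermForm n F q c c ≠ 0 := by
      intro h
      apply hc0
      apply hW c hc
      intro w hw
      obtain ⟨t, rfl⟩ := h3 w hw
      rw [herm_smul_right, h, mul_zero]
    refine ⟨fun i => i.elim0, fun i => i.elim0, c, ⟨fun i => i.elim0, fun i => i.elim0, hc, fun i => i.elim0,
      fun i => i.elim0, hJc, fun i => i.elim0, fun i => i.elim0, fun i => i.elim0, fun i => i.elim0,
      fun i => i.elim0, fun i => i.elim0, fun i => i.elim0, fun i => i.elim0, hcc, ?_⟩⟩
    intro w hw
    obtain ⟨t, rfl⟩ := h3 w hw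
    rw [herm_smul_left, mul_div_cancel_right₀ _ hcc]
    simp
  | succ m ih =>
    intro W hW hJW hd
    obtain ⟨a₀, ha, b₀, hb, hJa, hJb, haa, hbb, hab, hba⟩ := exists_pair hF hJ hW hJW (by omega)
    let P : Submodule F (Fin n → F) :=
      { carrier := {v | hermForm n F q v a₀ = 0 ∧ hermForm n F q v b₀ = 0}
        zero_mem' := ⟨herm_zero_left _, herm_zero_left _⟩
        add_mem' := fun {x y} hx hy => ⟨by rw [herm_add_left, hx.1, hy.1, add_zero],
          by rw [herm_add_left, hx.2, hy.2, add_zero]⟩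
        smul_mem' := fun c x hx => ⟨by rw [herm_smul_left, hx.1, mul_zero],
          by rw [herm_smul_left, hx.2, mul_zero]⟩ }
    have hPsub : ∀ w : Fin n → F, w - hermForm n F q w b₀ • a₀ - hermForm n F q w a₀ • b₀ ∈ P := by
      intro w
      constructor
      · rw [herm_sub_left, herm_sub_left, herm_smul_left, herm_smul_left, haa, hba]; ring
      · rw [herm_sub_left, herm_sub_left, herm_smul_left, herm_smul_left, hab, hbb]; ring
    have hdim : finrank F (W ⊓ P : Submodule F (Fin n → F)) = 2 * m + 1 := by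
      let θ : W →ₗ[F] F × F :=
        { toFun := fun w => (hermForm n F q w a₀, hermForm n F q w b₀)
          map_add' := fun x y => by
            simp only [Submodule.coe_add, herm_add_left]; rfl
          map_smul' := fun c x => by
            simp only [Submodule.coe_smul, herm_smul_left, RingHom.id_apply, Prod.smul_mk, smul_eq_mul] }
      have hsurj : LinearMap.range θ = ⊤ := by
        rw [eq_top_iff]
        rintro ⟨x, y⟩ -
        refine ⟨⟨y • a₀ + x • b₀, W.add_mem (W.smul_mem _ ha) (W.smul_mem _ hb)⟩, ?_⟩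
        show (hermForm n F q (y • a₀ + x • b₀) a₀, hermForm n F q (y • a₀ + x • b₀) b₀) = (x, y)
        rw [herm_add_left, herm_add_left, herm_smul_left, herm_smul_left, herm_smul_left, herm_smul_left,
          haa, hba, hab, hbb]
        simp
      have hrn := LinearMap.finrank_range_add_finrank_ker θ
      rw [hsurj, finrank_top, Module.finrank_prod, Module.finrank_self] at hrn
      have hker : finrank F (LinearMap.ker θ) = finrank F (W ⊓ P : Submodule F (Fin n → F)) := by
        have h1 : (LinearMap.ker θ) = P.comap W.subtype := by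
          ext w
          show ((hermForm n F q w a₀, hermForm n F q w b₀) : F × F) = 0 ↔ _
          rw [Prod.mk_eq_zero]
          rfl
        rw [h1, ← Submodule.map_comap_subtype]
        exact (LinearEquiv.finrank_eq (Submodule.equivMapOfInjective _ W.injective_subtype _))
      omega
    have hsub : ∀ w ∈ W, w - hermForm n F q w b₀ • a₀ - hermForm n F q w a₀ • b₀ ∈ W ⊓ P := fun w hw =>
      ⟨W.sub_mem (W.sub_mem hw (W.smul_mem _ ha)) (W.smul_mem _ hb), hPsub w⟩
    have hND : ND q (W ⊓ P) := by
      intro w hw h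
      apply hW w hw.1
      intro w' hw'
      have h1 := h _ (hsub w' hw')
      rw [herm_sub_right hF, herm_sub_right hF, herm_smul_right, herm_smul_right, hw.2.1, hw.2.2, mul_zero,
        mul_zero, sub_zero, sub_zero] at h1
      exact h1
    have hJP : ∀ w ∈ W ⊓ P, J w ∈ W ⊓ P := by
      intro w hw
      refine ⟨hJW w hw.1, ?_, ?_⟩
      · rw [← hJa, hJ.herm, hw.2.1, zero_pow_q hF]
      · rw [← hJb, hJ.herm, hw.2.2, zero_pow_q hF]
    obtain ⟨a, b, c, hfr⟩ := ih (W ⊓ P) hND hJP hdim
    have hswap : ∀ {x y : Fin n → F}, hermForm n F q x y = 0 → hermForm n F q y x = 0 :=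
      fun h => herm_eq_zero_swap hF h
    refine ⟨Fin.cons a₀ a, Fin.cons b₀ b, c, ⟨?_, ?_, hfr.memC.1, ?_, ?_, hfr.fixC, ?_, ?_, ?_, ?_, ?_, ?_, ?_, ?_,
      hfr.hcc, ?_⟩⟩
    · intro i; refine Fin.cases ha (fun j => (hfr.memA j).1) i
    · intro i; refine Fin.cases hb (fun j => (hfr.memB j).1) i
    · intro i; refine Fin.cases hJa (fun j => hfr.fixA j) i
    · intro i; refine Fin.cases hJb (fun j => hfr.fixB j) i
    · intro i j
      refine Fin.cases ?_ (fun i => ?_) i <;> refine Fin.cases ?_ (fun j => ?_) j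
      · exact haa
      · exact hswap (hfr.memA j).2.1
      · exact (hfr.memA i).2.1
      · exact hfr.haa i j
    · intro i j
      refine Fin.cases ?_ (fun i => ?_) i <;> refine Fin.cases ?_ (fun j => ?_) j
      · exact hbb
      · exact hswap (hfr.memB j).2.2
      · exact (hfr.memB i).2.2
      · exact hfr.hbb i j
    · intro i j
      refine Fin.cases ?_ (fun i => ?_) i <;> refine Fin.cases ?_ (fun j => ?_) j
      · simpa using hab
      · rw [if_neg (Fin.succ_ne_zero j).symm]
        exact hswap (hfr.memB j).2.1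
      · rw [if_neg (Fin.succ_ne_zero i)]
        exact (hfr.memA i).2.2
      · simpa using hfr.hab i j
    · intro i j
      refine Fin.cases ?_ (fun i => ?_) i <;> refine Fin.cases ?_ (fun j => ?_) j
      · simpa using hba
      · rw [if_neg (Fin.succ_ne_zero j).symm]
        exact hswap (hfr.memA j).2.2
      · rw [if_neg (Fin.succ_ne_zero i)]
        exact (hfr.memB i).2.1
      · simpa using hfr.hba i j
    · intro i; refine Fin.cases hfr.memC.2.1 (fun j => hfr.hca j) i
    · intro i; refine Fin.cases hfr.memC.2.2 (fun j => hfr.hcb j) i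
    · intro i; refine Fin.cases (hswap hfr.memC.2.1) (fun j => hfr.hac j) i
    · intro i; refine Fin.cases (hswap hfr.memC.2.2) (fun j => hfr.hbc j) i
    · intro w hw
      have h1 := hfr.decomp _ (hsub w hw)
      have e1 : ∀ i, hermForm n F q (w - hermForm n F q w b₀ • a₀ - hermForm n F q w a₀ • b₀) (b i) =
          hermForm n F q w (b i) := by
        intro i
        rw [herm_sub_left, herm_sub_left, herm_smul_left, herm_smul_left, hswap (hfr.memB i).2.1,
          hswap (hfr.memB i).2.2]
        ring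
      have e2 : ∀ i, hermForm n F q (w - hermForm n F q w b₀ • a₀ - hermForm n F q w a₀ • b₀) (a i) =
          hermForm n F q w (a i) := by
        intro i
        rw [herm_sub_left, herm_sub_left, herm_smul_left, herm_smul_left, hswap (hfr.memA i).2.1,
          hswap (hfr.memA i).2.2]
        ring
      have e3 : hermForm n F q (w - hermForm n F q w b₀ • a₀ - hermForm n F q w a₀ • b₀) c =
          hermForm n F q w c := by
        rw [herm_sub_left, herm_sub_left, herm_smul_left, herm_smul_left, hswap hfr.memC.2.1,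
          hswap hfr.memC.2.2]
        ring
      simp only [e1, e2, e3] at h1
      rw [Fin.sum_univ_succ, Fin.sum_univ_succ]
      simp only [Fin.cons_zero, Fin.cons_succ]
      rw [sub_sub, sub_eq_iff_eq_add] at h1
      conv_lhs => rw [h1]
      abel

end Cfsg.Agent.H373.HermFrame
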