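import Cfsg.Agent.H373.HermJ

/-!
# Existence of the anti-unitary involution inverting `s` (helper373)
-/

set_option autoImplicit false
set_option linter.unusedSectionVars false
set_option linter.unusedVariables false

namespace Cfsg.Agent.H373.HermJ

open Cfsg Cfsg.Agent.LieClassical.HermBasic Module

variable {F : Type*} [Field F] [Fintype F] {q n : ℕ} {s : (Fin n → F) ≃ₗ[F] (Fin n → F)}

theorem inv_inf {W W' : Submodule F (Fin n → F)} (h : Inv s W) (h' : Inv s W') : Inv s (W ⊓ W') :=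
  fun i w hw => ⟨h i w hw.1, h' i w hw.2⟩

/-- An equivariant projection onto an invariant subspace (odd order, characteristic two). -/
theorem exists_proj [CharP F 2] {m : ℕ} (hm : Odd m) (hsm : s ^ m = 1) {Y : Submodule F (Fin n → F)} (hY : Inv s Y) :
    ∃ π : (Fin n → F) →ₗ[F] (Fin n → F), (∀ v, π v ∈ Y) ∧ (∀ y ∈ Y, π y = y) ∧
      ∀ (i : ℤ) v, π ((s ^ i) v) = (s ^ i) (π v) := by
  classical
  obtain ⟨p, hp⟩ := Submodule.exists_isCompl Y
  let π₀ : (Fin n → F) →ₗ[F] (Fin n → F) := Y.subtype ∘ₗ Y.projectionOnto p hp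
  have h0 : ∀ v, π₀ v ∈ Y := fun v => (Y.projectionOnto p hp v).2
  have h1 : ∀ y ∈ Y, π₀ y = y := fun y hy => by
    show ((Y.projectionOnto p hp y : Y) : Fin n → F) = y
    have := Submodule.projectionOnto_apply_left hp ⟨y, hy⟩
    exact congrArg Subtype.val this
  let π : (Fin n → F) →ₗ[F] (Fin n → F) :=
    ∑ i ∈ Finset.range m, (s⁻¹ ^ i : (Fin n → F) ≃ₗ[F] (Fin n → F)).toLinearMap ∘ₗ π₀ ∘ₗ (s ^ i).toLinearMap
  have hπ : ∀ v, π v = ∑ i ∈ Finset.range m, (s⁻¹ ^ i) (π₀ ((s ^ i) v)) := by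
    intro v
    simp [π, LinearMap.sum_apply]
  have hs1 : ∀ v, π (s v) = s (π v) := by
    intro v
    rw [hπ, hπ, map_sum]
    have e : ∀ i, (s⁻¹ ^ i) (π₀ ((s ^ i) (s v))) = s ((s⁻¹ ^ (i + 1)) (π₀ ((s ^ (i + 1)) v))) := by
      intro i
      have e1 : (s ^ i) (s v) = (s ^ (i + 1)) v := by rw [pow_succ]; rfl
      have e2 : ∀ w, s ((s⁻¹ ^ (i + 1)) w) = (s⁻¹ ^ i) w := by
        intro w
        have : (s⁻¹ ^ i) = s * s⁻¹ ^ (i + 1) := by rw [pow_succ', mul_inv_cancel_left]
        rw [this]; rfl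
      rw [e1, e2]
    rw [Finset.sum_congr rfl (fun i _ => e i)]
    have h2 : ∑ i ∈ Finset.range m, s ((s⁻¹ ^ (i + 1)) (π₀ ((s ^ (i + 1)) v))) + s ((s⁻¹ ^ 0) (π₀ ((s ^ 0) v))) =
        ∑ i ∈ Finset.range m, s ((s⁻¹ ^ i) (π₀ ((s ^ i) v))) + s ((s⁻¹ ^ m) (π₀ ((s ^ m) v))) := by
      rw [← Finset.sum_range_succ' (fun i => s ((s⁻¹ ^ i) (π₀ ((s ^ i) v)))), ← Finset.sum_range_succ]
    rw [hsm, inv_pow s m, hsm, pow_zero, inv_one, pow_zero] at h2
    exact add_right_cancel h2
  have hsinv : ∀ v, π (s⁻¹ v) = s⁻¹ (π v) := by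
    intro v
    have h2 := hs1 (s⁻¹ v)
    have e : s (s⁻¹ v) = v := s.apply_symm_apply v
    rw [e] at h2
    rw [h2]
    exact (s.symm_apply_apply _).symm
  refine ⟨π, ?_, ?_, ?_⟩
  · intro v
    rw [hπ]
    refine Submodule.sum_mem _ fun i _ => ?_
    have := hY (-(i : ℤ)) _ (h0 ((s ^ i) v))
    rwa [zpow_neg, zpow_natCast, ← inv_pow] at this
  · intro y hy
    rw [hπ]
    have e : ∀ i, (s⁻¹ ^ i) (π₀ ((s ^ i) y)) = y := by
      intro i
      have h2 : (s ^ i) y ∈ Y := by
        have := hY (i : ℤ) y hy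
        rwa [zpow_natCast] at this
      rw [h1 _ h2, inv_pow]
      exact (s ^ i).symm_apply_apply y
    rw [Finset.sum_congr rfl (fun i _ => e i), Finset.sum_const, Finset.card_range]
    obtain ⟨k, rfl⟩ := hm
    rw [← Nat.cast_smul_eq_nsmul F, Nat.cast_add, Nat.cast_mul, Nat.cast_two, CharTwo.two_eq_zero, zero_mul,
      zero_add, Nat.cast_one, one_smul]
  · intro i
    have hk : ∀ (k : ℕ) v, π ((s ^ k) v) = (s ^ k) (π v) := by
      intro k
      induction k with
      | zero => intro v; rfl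
      | succ k ih =>
        intro v
        rw [pow_succ']
        show π (s ((s ^ k) v)) = s ((s ^ k) (π v))
        rw [hs1, ih]
    have hk' : ∀ (k : ℕ) v, π ((s⁻¹ ^ k) v) = (s⁻¹ ^ k) (π v) := by
      intro k
      induction k with
      | zero => intro v; rfl
      | succ k ih =>
        intro v
        rw [pow_succ']
        show π (s⁻¹ ((s⁻¹ ^ k) v)) = s⁻¹ ((s⁻¹ ^ k) (π v))
        rw [hsinv, ih]
    intro v
    cases i with
    | ofNat k => exact hk k v
    | negSucc k =>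
      rw [zpow_negSucc, ← inv_pow]
      exact hk' (k + 1) v

/-- Existence of a minimal invariant subspace. -/
theorem exists_min {P : Submodule F (Fin n → F) → Prop} {W : Submodule F (Fin n → F)} (hW : Inv s W) (hP : P W) :
    ∃ Y ≤ W, Inv s Y ∧ P Y ∧ ∀ Y' ≤ Y, Inv s Y' → P Y' → Y' = Y := by
  classical
  have hex : ∃ k : ℕ, ∃ Y ≤ W, Inv s Y ∧ P Y ∧ finrank F Y = k := ⟨_, W, le_rfl, hW, hP, rfl⟩
  obtain ⟨Y, hYW, hYi, hPY, hk⟩ := Nat.find_spec hex
  refine ⟨Y, hYW, hYi, hPY, ?_⟩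
  intro Y' hY' hi' hP'
  refine Submodule.eq_of_le_of_finrank_le hY' ?_
  rw [hk]
  exact Nat.find_min' hex ⟨Y', hY'.trans hYW, hi', hP', rfl⟩

/-- A nonzero non-degenerate invariant subspace contains a nonzero non-degenerate cyclic subspace. -/
theorem exists_cyc [CharP F 2] (hF : Fintype.card F = q ^ 2)
    (hs : ∀ u v, hermForm n F q (s u) (s v) = hermForm n F q u v) {m : ℕ} (hm : Odd m) (hsm : s ^ m = 1)
    {W : Submodule F (Fin n → F)} (hW : Inv s W) (hnd : ND q W) (h0 : W ≠ ⊥) :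
    ∃ c ∈ W, c ≠ 0 ∧ ND q (cyc s c) := by
  classical
  by_contra hcon
  push Not at hcon
  obtain ⟨W₀, hW₀W, hW₀i, hW₀n, hW₀min⟩ := exists_min (P := fun Y => Y ≠ ⊥) hW h0
  -- a minimal invariant subspace is cyclic, hence isotropic
  have hmin : ∀ Y ≤ W, Inv s Y → (∀ Y' ≤ Y, Inv s Y' → Y' ≠ ⊥ → Y' = Y) → ∀ y ∈ Y, ∀ y' ∈ Y, hermForm n F q y y' = 0 := by
    intro Y hYW hYi hYmin
    by_cases hYb : Y = ⊥
    · intro y hy y' hy'
      rw [hYb, Submodule.mem_bot] at hy
      rw [hy, herm_zero_left]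
    obtain ⟨c, hc, hc0⟩ := Submodule.exists_mem_ne_zero_of_ne_bot hYb
    have hcyc : cyc s c = Y := hYmin _ (cyc_le s hYi hc) (inv_cyc s c) (by
      intro h
      have := mem_cyc s c
      rw [h, Submodule.mem_bot] at this
      exact hc0 this)
    have h1 := hcon c (hYW hc) hc0
    rw [hcyc] at h1
    have h2 : Y ⊓ perp hF Y ≠ ⊥ := by
      intro h2
      apply h1
      intro w hw hw'
      have : w ∈ Y ⊓ perp hF Y := ⟨hw, hw'⟩
      rwa [h2, Submodule.mem_bot] at this
    have h3 := hYmin _ inf_le_left (inv_inf hYi (inv_perp hF hs hYi)) h2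
    intro y hy y' hy'
    rw [← h3] at hy
    exact hy.2 y' hy'
  have hiso₀ := hmin W₀ hW₀W hW₀i (fun Y' h1 h2 h3 => hW₀min Y' h1 h2 h3)
  -- a minimal invariant subspace not orthogonal to `W₀`
  have hne : ¬ W ≤ perp hF W₀ := by
    intro hle
    apply hW₀n
    rw [Submodule.eq_bot_iff]
    intro w hw
    apply hnd w (hW₀W hw)
    intro w' hw'
    exact herm_eq_zero_swap hF (hle hw' w hw)
  obtain ⟨W₁, hW₁W, hW₁i, hW₁n, hW₁min⟩ := exists_min (P := fun Y => ¬ Y ≤ perp hF W₀) hW hne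
  have hW₁p : W₁ ⊓ perp hF W₀ = ⊥ := by
    have hYi : Inv s (W₁ ⊓ perp hF W₀) := inv_inf hW₁i (inv_perp hF hs hW₀i)
    obtain ⟨π, hπ1, hπ2, hπ3⟩ := exists_proj hm hsm hYi
    let Y' : Submodule F (Fin n → F) := W₁ ⊓ LinearMap.ker π
    have hY'i : Inv s Y' := by
      intro i w hw
      refine ⟨hW₁i i w hw.1, LinearMap.mem_ker.2 ?_⟩
      rw [hπ3, LinearMap.mem_ker.1 hw.2, map_zero]
    have hY'n : ¬ Y' ≤ perp hF W₀ := by
      intro hle
      apply hW₁n
      intro w hw
      have h1 : w - π w ∈ Y' := by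
        refine ⟨Submodule.sub_mem _ hw (hπ1 w).1, LinearMap.mem_ker.2 ?_⟩
        rw [map_sub, hπ2 _ (hπ1 w), sub_self]
      have h2 := Submodule.add_mem _ (hle h1) (hπ1 w).2
      rwa [sub_add_cancel] at h2
    have h1 := hW₁min Y' inf_le_left hY'i hY'n
    rw [Submodule.eq_bot_iff]
    intro y hy
    have h2 : y ∈ Y' := by rw [h1]; exact hy.1
    rw [← hπ2 y hy]
    exact LinearMap.mem_ker.1 h2.2
  have hW₁min' : ∀ Y' ≤ W₁, Inv s Y' → Y' ≠ ⊥ → Y' = W₁ := by
    intro Y' hY' hi hn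
    apply hW₁min Y' hY' hi
    intro hle
    apply hn
    rw [eq_bot_iff, ← hW₁p]
    exact le_inf hY' hle
  have hiso₁ := hmin W₁ hW₁W hW₁i hW₁min'
  obtain ⟨w₁, hw₁, hw₁p⟩ : ∃ w₁ ∈ W₁, w₁ ∉ perp hF W₀ := by
    by_contra hc
    push Not at hc
    exact hW₁n hc
  have hw₁0 : w₁ ≠ 0 := by
    rintro rfl
    exact hw₁p (Submodule.zero_mem _)
  obtain ⟨w₀, hw₀, hw₀0⟩ := Submodule.exists_mem_ne_zero_of_ne_bot hW₀n
  have hcyc₀ : cyc s w₀ = W₀ := hW₀min _ (cyc_le s hW₀i hw₀) (inv_cyc s w₀) (by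
    intro h
    have := mem_cyc s w₀
    rw [h, Submodule.mem_bot] at this
    exact hw₀0 this)
  have hcyc₁ : cyc s w₁ = W₁ := hW₁min' _ (cyc_le s hW₁i hw₁) (inv_cyc s w₁) (by
    intro h
    have := mem_cyc s w₁
    rw [h, Submodule.mem_bot] at this
    exact hw₁0 this)
  -- `W₀ ⊔ W₁` is non-degenerate
  have hW₀p : W₀ ⊓ perp hF W₁ = ⊥ := by
    by_contra hb
    have h1 := hW₀min _ inf_le_left (inv_inf hW₀i (inv_perp hF hs hW₁i)) hb
    apply hw₁p
    intro w hw
    rw [← h1] at hw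
    exact herm_eq_zero_swap hF (hw.2 w₁ hw₁)
  have hDnd : ND q (W₀ ⊔ W₁) := by
    intro w hw hperp
    obtain ⟨a, ha, b, hb, rfl⟩ := Submodule.mem_sup.1 hw
    have h1 : a ∈ W₀ ⊓ perp hF W₁ := by
      refine ⟨ha, fun w' hw' => ?_⟩
      have := hperp w' (Submodule.mem_sup_right hw')
      rwa [herm_add_left, hiso₁ b hb w' hw', add_zero] at this
    have h2 : b ∈ W₁ ⊓ perp hF W₀ := by
      refine ⟨hb, fun w' hw' => ?_⟩
      have := hperp w' (Submodule.mem_sup_left hw')
      rwa [herm_add_left, hiso₀ a ha w' hw', zero_add] at this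
    rw [hW₀p, Submodule.mem_bot] at h1
    rw [hW₁p, Submodule.mem_bot] at h2
    rw [h1, h2, add_zero]
  -- the vectors `w₀ + β w₁`
  have key : ∀ β : F, β ≠ 0 → ∀ i : ℤ, hermForm n F q ((s ^ i) (w₀ + β • w₁)) (w₀ + β • w₁) = 0 := by
    intro β hβ
    set c := w₀ + β • w₁ with hc
    have hcW : c ∈ W := Submodule.add_mem _ (hW₀W hw₀) (Submodule.smul_mem _ _ (hW₁W hw₁))
    have hcD : c ∈ W₀ ⊔ W₁ := Submodule.add_mem_sup hw₀ (Submodule.smul_mem _ _ hw₁)
    have hDi : Inv s (W₀ ⊔ W₁) := by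
      intro i w hw
      obtain ⟨a, ha, b, hb, rfl⟩ := Submodule.mem_sup.1 hw
      rw [map_add]
      exact Submodule.add_mem_sup (hW₀i i a ha) (hW₁i i b hb)
    have hdisj : W₀ ⊓ W₁ = ⊥ := by
      rw [eq_bot_iff, ← hW₀p]
      intro w hw
      exact ⟨hw.1, fun w' hw' => hiso₁ w hw.2 w' hw'⟩
    have hc0 : c ≠ 0 := by
      intro h
      have h1 : w₀ ∈ W₀ ⊓ W₁ := by
        refine ⟨hw₀, ?_⟩
        have : w₀ = -(β • w₁) := eq_neg_of_add_eq_zero_left h
        rw [this]
        exact Submodule.neg_mem _ (Submodule.smul_mem _ _ hw₁)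
      rw [hdisj, Submodule.mem_bot] at h1
      exact hw₀0 h1
    -- if the cyclic space meets `W₀` or `W₁` it is everything
    have hall : w₀ ∈ cyc s c → False := by
      intro h
      have h1 : W₀ ≤ cyc s c := by rw [← hcyc₀]; exact cyc_le s (inv_cyc s c) h
      have h2 : w₁ ∈ cyc s c := by
        have h3 : c - w₀ ∈ cyc s c := Submodule.sub_mem _ (mem_cyc s c) h
        rw [hc, add_sub_cancel_left] at h3
        have h4 := Submodule.smul_mem _ β⁻¹ h3
        rwa [smul_smul, inv_mul_cancel₀ hβ, one_smul] at h4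
      have h3 : W₁ ≤ cyc s c := by rw [← hcyc₁]; exact cyc_le s (inv_cyc s c) h2
      have h4 : cyc s c = W₀ ⊔ W₁ := le_antisymm (cyc_le s hDi hcD) (sup_le h1 h3)
      apply hcon c hcW hc0
      rw [h4]
      exact hDnd
    have hm0 : cyc s c ⊓ W₀ = ⊥ := by
      by_contra hb
      have h1 := hW₀min _ inf_le_right (inv_inf (inv_cyc s c) hW₀i) hb
      have h2 : w₀ ∈ cyc s c ⊓ W₀ := by rw [h1]; exact hw₀
      exact hall h2.1
    -- the cyclic space is minimal
    have hcmin : ∀ Y' ≤ cyc s c, Inv s Y' → Y' ≠ ⊥ → Y' = cyc s c := by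
      intro Y' hY' hi hn
      -- a nonzero element of `Y'`, with nonzero component in `W₁`
      obtain ⟨y, hy, hy0⟩ := Submodule.exists_mem_ne_zero_of_ne_bot hn
      -- the projection of `Y'` to `W₁`
      let Z : Submodule F (Fin n → F) := W₁ ⊓ (Y' ⊔ W₀)
      have hZi : Inv s Z := by
        refine inv_inf hW₁i ?_
        intro i w hw
        obtain ⟨a, ha, b, hb, rfl⟩ := Submodule.mem_sup.1 hw
        rw [map_add]
        exact Submodule.add_mem_sup (hi i a ha) (hW₀i i b hb)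
      have hZn : Z ≠ ⊥ := by
        intro hZ
        obtain ⟨a, ha, b, hb, hab⟩ := Submodule.mem_sup.1 ((cyc_le s hDi hcD) (hY' hy))
        have h1 : b ∈ Z := by
          refine ⟨hb, ?_⟩
          have : b = y + (-a) := by rw [← hab]; abel
          rw [this]
          exact Submodule.add_mem_sup hy (Submodule.neg_mem _ ha)
        rw [hZ, Submodule.mem_bot] at h1
        rw [h1, add_zero] at hab
        have h2 : y ∈ cyc s c ⊓ W₀ := ⟨hY' hy, hab ▸ ha⟩
        rw [hm0, Submodule.mem_bot] at h2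
        exact hy0 h2
      have h1 := hW₁min' Z inf_le_left hZi hZn
      have h2 : β • w₁ ∈ Z := by rw [h1]; exact Submodule.smul_mem _ _ hw₁
      obtain ⟨y', hy', b, hb, hyb⟩ := Submodule.mem_sup.1 h2.2
      -- `c - y'` lies in `cyc ∩ W₀`
      have h3 : c - y' ∈ cyc s c ⊓ W₀ := by
        refine ⟨Submodule.sub_mem _ (mem_cyc s c) (hY' hy'), ?_⟩
        have : c - y' = w₀ + b := by rw [hc, ← hyb]; abel
        rw [this]
        exact Submodule.add_mem _ hw₀ hb
      rw [hm0, Submodule.mem_bot, sub_eq_zero] at h3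
      exact le_antisymm hY' (cyc_le s hi (h3 ▸ hy'))
    have hciso := hmin (cyc s c) (cyc_le s hW hcW) (inv_cyc s c) hcmin
    intro i
    exact hciso _ (pow_mem_cyc s c i) _ (mem_cyc s c)
  -- conclusion
  have hzero : ∀ i : ℤ, hermForm n F q ((s ^ i) w₀) w₁ = 0 := by
    intro i
    have hexp : ∀ β : F, β ≠ 0 → β ^ q * hermForm n F q ((s ^ i) w₀) w₁ + β * hermForm n F q ((s ^ i) w₁) w₀ = 0 := by
      intro β hβ
      have h1 := key β hβ i
      rw [map_add, map_smul] at h1
      simp only [herm_add_left, herm_add_right hF, herm_smul_left, herm_smul_right] at h1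
      rw [hiso₀ _ (hW₀i i _ hw₀) _ hw₀, hiso₁ _ (hW₁i i _ hw₁) _ hw₁] at h1
      linear_combination h1
    obtain ⟨β, hβ⟩ := exists_not_fixed hF
    have hβ0 : β ≠ 0 := by
      rintro rfl
      exact hβ (zero_pow_q hF)
    have h1 := hexp 1 one_ne_zero
    have h2 := hexp β hβ0
    rw [one_pow, one_mul, one_mul] at h1
    have h3 : (β ^ q - β) * hermForm n F q ((s ^ i) w₀) w₁ = 0 := by
      linear_combination h2 - β * h1
    rcases mul_eq_zero.1 h3 with h4 | h4
    · exact absurd (sub_eq_zero.1 h4) hβ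
    · exact h4
  apply hw₁p
  intro w hw
  rw [← hcyc₀] at hw
  apply herm_eq_zero_swap hF
  refine Submodule.span_induction (p := fun w _ => hermForm n F q w w₁ = 0) ?_ ?_ ?_ ?_ hw
  · rintro _ ⟨i, rfl⟩
    exact hzero i
  · exact herm_zero_left _
  · intro a b _ _ ha hb
    rw [herm_add_left, ha, hb, add_zero]
  · intro a b _ hb
    rw [herm_smul_left, hb, mul_zero]

/-- Orthogonal decomposition. -/
theorem exists_decomp (hF : Fintype.card F = q ^ 2) {W : Submodule F (Fin n → F)} (hW : ND q W) (v : Fin n → F) :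
    ∃ a ∈ W, ∃ b ∈ perp hF W, a + b = v := by
  classical
  let b := finBasis F W
  let Φ : (Fin n → F) →ₗ[F] (Fin (finrank F W) → F) :=
    { toFun := fun v i => hermForm n F q v (b i : Fin n → F)
      map_add' := fun x y => by funext i; exact herm_add_left _ _ _
      map_smul' := fun c x => by funext i; exact herm_smul_left _ _ _ }
  have hker : LinearMap.ker Φ ≤ perp hF W := by
    intro x hx w hw
    have h1 : (⟨w, hw⟩ : W) ∈ Submodule.span F (Set.range b) := by rw [b.span_eq]; trivial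
    have h2 : ∀ w : W, w ∈ Submodule.span F (Set.range b) → hermForm n F q x (w : Fin n → F) = 0 := by
      intro w hw
      refine Submodule.span_induction (p := fun (w : W) _ => hermForm n F q x (w : Fin n → F) = 0) ?_ ?_ ?_ ?_ hw
      · rintro _ ⟨i, rfl⟩
        exact congrFun (LinearMap.mem_ker.1 hx) i
      · exact herm_zero_right hF _
      · intro a c _ _ ha hc
        rw [Submodule.coe_add, herm_add_right hF, ha, hc, add_zero]
      · intro a c _ hc
        rw [Submodule.coe_smul, herm_smul_right, hc, mul_zero]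
    exact h2 _ h1
  have h1 := LinearMap.finrank_range_add_finrank_ker Φ
  have h2 : finrank F (LinearMap.range Φ) ≤ finrank F W := by
    have := Submodule.finrank_le (LinearMap.range Φ)
    rwa [Module.finrank_fintype_fun_eq_card, Fintype.card_fin] at this
  have h3 := Submodule.finrank_mono hker
  have h4 : W ⊓ perp hF W = ⊥ := by
    rw [Submodule.eq_bot_iff]
    intro w hw
    exact hW w hw.1 hw.2
  have h5 := Submodule.finrank_sup_add_finrank_inf_eq W (perp hF W)
  rw [h4, finrank_bot, add_zero] at h5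
  have h6 : W ⊔ perp hF W = ⊤ := by
    apply Submodule.eq_top_of_finrank_eq
    refine le_antisymm (Submodule.finrank_le _) ?_
    omega
  have h7 : v ∈ W ⊔ perp hF W := by rw [h6]; trivial
  exact Submodule.mem_sup.1 h7

/-- **Existence of an anti-unitary involution inverting `s`.** -/
theorem exists_J [CharP F 2] (hF : Fintype.card F = q ^ 2)
    (hs : ∀ u v, hermForm n F q (s u) (s v) = hermForm n F q u v) {m : ℕ} (hm : Odd m) (hsm : s ^ m = 1) :
    ∃ J, JOn q s (⊤ : Submodule F (Fin n → F)) J := by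
  classical
  -- a maximal non-degenerate invariant subspace with a `J`
  have hex : ∃ k : ℕ, ∃ W : Submodule F (Fin n → F), Inv s W ∧ ND q W ∧ (∃ J, JOn q s W J) ∧
      n - finrank F W = k := by
    refine ⟨_, ⊥, ?_, ?_, ⟨id, ?_, ?_, ?_, ?_, ?_, ?_⟩, rfl⟩
    · intro i w hw
      rw [Submodule.mem_bot] at hw ⊢
      rw [hw, map_zero]
    · intro w hw _
      exact (Submodule.mem_bot F).1 hw
    · intro w hw; exact hw
    · intro w _ w' _; rfl
    · intro c w hw
      rw [Submodule.mem_bot] at hw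
      simp [hw]
    · intro w _; rfl
    · intro w hw w' _
      rw [Submodule.mem_bot] at hw
      simp only [id, hw, herm_zero_left, zero_pow_q hF]
    · intro w hw
      rw [Submodule.mem_bot] at hw
      simp [hw]
  obtain ⟨W, hWi, hWn, ⟨J, hJ⟩, hk⟩ := Nat.find_spec hex
  by_cases hP : perp hF W = ⊥
  · -- then `W = ⊤`
    have hW : W = ⊤ := by
      by_contra hne
      -- dimension count: `v ↦ h(·, v)` restricted
      have h1 : ∃ f : (Fin n → F) →ₗ[F] F, f ≠ 0 ∧ W ≤ LinearMap.ker f := by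
        obtain ⟨f, hf, hf'⟩ := Submodule.exists_le_ker_of_lt_top W (lt_top_iff_ne_top.2 hne)
        exact ⟨f, hf, hf'⟩
      obtain ⟨f, hf, hfW⟩ := h1
      -- represent `f` by the form
      let v : Fin n → F := fun i => (f (Pi.single i 1)) ^ q
      have hv : ∀ w, hermForm n F q w v = f w := by
        intro w
        rw [herm_def]
        have : ∀ i, w i * v i ^ q = f (Pi.single i (w i)) := by
          intro i
          show w i * ((f (Pi.single i 1)) ^ q) ^ q = _
          rw [pow_q_pow_q hF]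
          have : (Pi.single i (w i) : Fin n → F) = w i • Pi.single i 1 := by
            rw [← Pi.single_smul, smul_eq_mul, mul_one]
          rw [this, map_smul, smul_eq_mul]
        rw [Finset.sum_congr rfl (fun i _ => this i), ← map_sum, Finset.univ_sum_single]
      have hvp : v ∈ perp hF W := by
        intro w hw
        apply herm_eq_zero_swap hF
        rw [hv]
        exact LinearMap.mem_ker.1 (hfW hw)
      rw [hP, Submodule.mem_bot] at hvp
      apply hf
      ext w
      rw [LinearMap.comp_apply, ← hv, hvp, herm_zero_right hF]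
      simp
    exact ⟨J, hW ▸ hJ⟩
  · exfalso
    have hPi : Inv s (perp hF W) := inv_perp hF hs hWi
    have hWP : ∀ v, ∃ a ∈ W, ∃ b ∈ perp hF W, a + b = v := exists_decomp hF hWn
    have hPn : ND q (perp hF W) := by
      intro w hw hw'
      apply herm_nondeg hF
      intro v
      obtain ⟨a, ha, b, hb, rfl⟩ := hWP v
      rw [herm_add_right hF, hw a ha, hw' b hb, add_zero]
    obtain ⟨c, hc, hc0, hcn⟩ := exists_cyc hF hs hm hsm hPi hPn hP
    obtain ⟨J', hJ'⟩ := exists_J_cyc hF hs c hcn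
    have horth : ∀ w ∈ W, ∀ w' ∈ cyc s c, hermForm n F q w w' = 0 := by
      intro w hw w' hw'
      exact herm_eq_zero_swap hF ((cyc_le s hPi hc) hw' w hw)
    obtain ⟨J'', hJ''⟩ := glue hF hJ hJ' hWi (inv_cyc s c) hWn horth
    have hlt : finrank F W < finrank F (W ⊔ cyc s c : Submodule F (Fin n → F)) := by
      refine Submodule.finrank_lt_finrank_of_lt ?_
      refine lt_of_le_of_ne le_sup_left ?_
      intro h
      have h1 : c ∈ W := by
        rw [h]; exact Submodule.mem_sup_right (mem_cyc s c)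
      exact hc0 (hWn c h1 fun w' hw' => hc w' hw')
    have hle : finrank F (W ⊔ cyc s c : Submodule F (Fin n → F)) ≤ n := by
      have := Submodule.finrank_le (W ⊔ cyc s c : Submodule F (Fin n → F))
      rwa [Module.finrank_fintype_fun_eq_card, Fintype.card_fin] at this
    have hmin := Nat.find_min' hex ⟨W ⊔ cyc s c, ?_, ?_, ⟨J'', hJ''⟩, rfl⟩
    · omega
    · intro i w hw
      obtain ⟨a, ha, b, hb, rfl⟩ := Submodule.mem_sup.1 hw
      rw [map_add]
      exact Submodule.add_mem_sup (hWi i a ha) (inv_cyc s c i b hb)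
    · intro w hw hw'
      obtain ⟨a, ha, b, hb, rfl⟩ := Submodule.mem_sup.1 hw
      have h1 : a = 0 := by
        apply hWn a ha
        intro w' hw1
        have := hw' w' (Submodule.mem_sup_left hw1)
        rwa [herm_add_left, herm_eq_zero_swap hF (horth w' hw1 b hb), add_zero] at this
      have h2 : b = 0 := by
        apply hcn b hb
        intro w' hw1
        have := hw' w' (Submodule.mem_sup_right hw1)
        rwa [herm_add_left, horth a ha w' hw1, zero_add] at this
      rw [h1, h2, add_zero]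

end Cfsg.Agent.H373.HermJ
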