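import Mathlib

/-!
# Restrictions on the simple section, groups of characteristic two and large rank (helper373, team SPEC-L2)

`L` is `PSL n (2 ^ k)` or `PSU n (2 ^ k)` with `n = 2 ^ t` or `n = 2 ^ t + 1`. `Big t k c S` collects what is known of the
simple section `S` of a group isospectral to `L`, in a form independent of `L`:

* `a t k = (2 ^ k) ^ (2 ^ (t - 1)) + 1` is an element order of `S`, and no prime divisor of it is adjacent to `2`;
* `unip` : an element of `S` of order divisible by `2 ^ (t + 1)` has order `2 ^ (t + 1)`;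
* `ex_b` : there is another prime not adjacent to `2`, not adjacent to the prime divisors of `a t k`;
* `cocl` : `S` has a coclique of at least `c` primes.
-/

set_option autoImplicit false

namespace Cfsg.Agent.H373.Large

/-- Cocliques of the prime graph (as `H414.Vasiliev.Coc`, `H420.QR.IsCoq`). -/
def Coq (G : Type*) [Group G] (ρ : Finset ℕ) : Prop :=
  (∀ r ∈ ρ, r.Prime ∧ r ∣ Nat.card G) ∧ (∀ r ∈ ρ, ∀ s ∈ ρ, r ≠ s → ¬ ∃ x : G, orderOf x = r * s)

/-- The number `q ^ (2 ^ (t - 1)) + 1`, `q = 2 ^ k`. -/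
def a (t k : ℕ) : ℕ := (2 ^ k) ^ (2 ^ (t - 1)) + 1

/-- Restrictions on the simple section. -/
structure Big (t k c : ℕ) (S : Type*) [Group S] : Prop where
  two_le : 2 ≤ t
  one_le : 1 ≤ k
  unip : ∀ g : S, 2 ^ (t + 1) ∣ orderOf g → orderOf g = 2 ^ (t + 1)
  ex_a : ∃ g : S, orderOf g = a t k
  nadj_a : ∀ s : ℕ, s.Prime → s ∣ a t k → ¬ ∃ x : S, orderOf x = 2 * s
  ex_b : ∃ s : ℕ, s.Prime ∧ s ≠ 2 ∧ s ∣ Nat.card S ∧ (¬ ∃ x : S, orderOf x = 2 * s) ∧
    ∀ s' : ℕ, s'.Prime → s' ∣ a t k → ¬ ∃ x : S, orderOf x = s * s'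
  cocl : ∃ ρ : Finset ℕ, Coq S ρ ∧ c ≤ ρ.card

/-- A number all of whose prime divisors are `1` modulo `m` is `1` modulo `m`. -/
theorem modEq_one_of_primes {m : ℕ} : ∀ {n : ℕ}, n ≠ 0 → (∀ s : ℕ, s.Prime → s ∣ n → s ≡ 1 [MOD m]) → n ≡ 1 [MOD m] := by
  intro n
  induction n using Nat.recOnMul with
  | zero => intro h; exact absurd rfl h
  | one => intro _ _; exact Nat.ModEq.refl 1
  | prime p hp => intro _ h; exact h p hp dvd_rfl
  | mul x y hx hy =>
    intro h0 h
    have hx0 : x ≠ 0 := by rintro rfl; simp at h0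
    have hy0 : y ≠ 0 := by rintro rfl; simp at h0
    have h1 := hx hx0 fun s hs hd => h s hs (hd.mul_right _)
    have h2 := hy hy0 fun s hs hd => h s hs (hd.mul_left _)
    simpa using h1.mul h2

/-- **The modulo `m` trick**: not all prime divisors of `a t k` are `1` modulo an odd `m > 1`. -/
theorem exists_not_modEq (t k : ℕ) {m : ℕ} (hm : Odd m) (h1 : 1 < m) :
    ∃ s : ℕ, s.Prime ∧ s ∣ a t k ∧ ¬ s ≡ 1 [MOD m] := by
  by_contra hno
  push Not at hno
  have h2 : a t k ≡ 1 [MOD m] := modEq_one_of_primes (by unfold a; omega) hno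
  have h3 : m ∣ (2 ^ k) ^ (2 ^ (t - 1)) := by
    have := (Nat.modEq_iff_dvd' (by unfold a; omega : 1 ≤ a t k)).1 h2.symm
    unfold a at this
    simpa using this
  rw [← pow_mul] at h3
  have h4 : Nat.Coprime m (2 ^ (k * 2 ^ (t - 1))) := Nat.Coprime.pow_right _ (Nat.coprime_two_right.2 hm)
  have h5 := Nat.dvd_gcd dvd_rfl h3
  rw [h4] at h5
  have := Nat.le_of_dvd one_pos h5
  omega

namespace Big

variable {t k c : ℕ} {S : Type*} [Group S]

/-- The prime divisors of `a t k` divide the order of `S`. -/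
theorem dvd_card (h : Big t k c S) {s : ℕ} (hd : s ∣ a t k) : s ∣ Nat.card S := by
  obtain ⟨g, hg⟩ := h.ex_a
  exact hd.trans (hg ▸ orderOf_dvd_natCard g)

/-- The prime divisors of `a t k` are pairwise adjacent, even divide the order of one element. -/
theorem adj_a [Finite S] (h : Big t k c S) {s s' : ℕ} (hs : s.Prime) (hs' : s'.Prime) (hd : s ∣ a t k) (hd' : s' ∣ a t k)
    (hne : s ≠ s') : ∃ x : S, orderOf x = s * s' := by
  obtain ⟨g, hg⟩ := h.ex_a
  have h1 : s * s' ∣ orderOf g := by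
    rw [hg]; exact ((Nat.coprime_primes hs hs').2 hne).mul_dvd_of_dvd_of_dvd hd hd'
  obtain ⟨j, hj⟩ := h1
  have hpos := orderOf_pos g
  refine ⟨g ^ j, ?_⟩
  have hj0 : j ≠ 0 := by rintro rfl; rw [mul_zero] at hj; omega
  rw [orderOf_pow_of_dvd hj0 (by rw [hj]; exact dvd_mul_left _ _), hj, Nat.mul_div_cancel _ (Nat.pos_of_ne_zero hj0)]

theorem odd_a (h : Big t k c S) : Odd (a t k) := by
  have := h.one_le
  unfold a
  exact ((Nat.even_pow).2 ⟨(Nat.even_pow).2 ⟨even_two, by omega⟩, by positivity⟩).add_one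

/-- No element of order `2 ^ (t + 2)` or `2 ^ (t + 1) * r`, `r > 1`. -/
theorem not_mul (h : Big t k c S) (g : S) {r : ℕ} (hr : r ≠ 1) : orderOf g ≠ 2 ^ (t + 1) * r := fun e => by
  have h1 := h.unip g ⟨r, e⟩
  rw [e] at h1
  have h2 : 0 < 2 ^ (t + 1) := by positivity
  exact hr (Nat.eq_of_mul_eq_mul_left h2 (by rw [h1, mul_one]))

end Big

end Cfsg.Agent.H373.Large
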