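import Cfsg.Agent.LieClassical.HermBasic

/-!
# Anti-unitary involutions inverting a unitary transformation of odd order (helper373)

`card F = q ^ 2`, characteristic two, `h = hermForm n F q`. For an isometry `s` of odd order there is a
`q`-semilinear involution `J` with `h(J v, J w) = h(v, w) ^ q` and `J s J = s⁻¹`.
-/

set_option autoImplicit false

namespace Cfsg.Agent.H373.HermJ

open Cfsg Cfsg.Agent.LieClassical.HermBasic

variable {F : Type*} [Field F] [Fintype F] {q n : ℕ}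

/-- Non-degenerate subspaces. -/
def ND (q : ℕ) (W : Submodule F (Fin n → F)) : Prop :=
  ∀ w ∈ W, (∀ w' ∈ W, hermForm n F q w w' = 0) → w = 0

/-- Invariant subspaces. -/
def Inv (s : (Fin n → F) ≃ₗ[F] (Fin n → F)) (W : Submodule F (Fin n → F)) : Prop :=
  ∀ i : ℤ, ∀ w ∈ W, (s ^ i) w ∈ W

/-- The orthogonal space. -/
def perp (hF : Fintype.card F = q ^ 2) (W : Submodule F (Fin n → F)) : Submodule F (Fin n → F) where
  carrier := {v | ∀ w ∈ W, hermForm n F q v w = 0}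
  zero_mem' := fun w _ => herm_zero_left w
  add_mem' := fun {a b} ha hb w hw => by rw [herm_add_left, ha w hw, hb w hw, add_zero]
  smul_mem' := fun c a ha w hw => by rw [herm_smul_left, ha w hw, mul_zero]

theorem mem_perp (hF : Fintype.card F = q ^ 2) {W : Submodule F (Fin n → F)} {v : Fin n → F} :
    v ∈ perp hF W ↔ ∀ w ∈ W, hermForm n F q v w = 0 := Iff.rfl

/-- The cyclic subspace generated by `c`. -/
def cyc (s : (Fin n → F) ≃ₗ[F] (Fin n → F)) (c : Fin n → F) : Submodule F (Fin n → F) :=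
  Submodule.span F (Set.range (fun i : ℤ => (s ^ i) c))

theorem pow_mem_cyc (s : (Fin n → F) ≃ₗ[F] (Fin n → F)) (c : Fin n → F) (i : ℤ) : (s ^ i) c ∈ cyc s c :=
  Submodule.subset_span ⟨i, rfl⟩

theorem mem_cyc (s : (Fin n → F) ≃ₗ[F] (Fin n → F)) (c : Fin n → F) : c ∈ cyc s c := by
  have := pow_mem_cyc s c 0
  rwa [zpow_zero] at this

theorem zpow_zpow_apply (s : (Fin n → F) ≃ₗ[F] (Fin n → F)) (i j : ℤ) (v : Fin n → F) :
    (s ^ i) ((s ^ j) v) = (s ^ (i + j)) v := by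
  rw [zpow_add]; rfl

theorem inv_cyc (s : (Fin n → F) ≃ₗ[F] (Fin n → F)) (c : Fin n → F) : Inv s (cyc s c) := by
  intro i w hw
  refine Submodule.span_induction (p := fun w _ => (s ^ i) w ∈ cyc s c) ?_ ?_ ?_ ?_ hw
  · rintro _ ⟨j, rfl⟩
    simp only
    rw [zpow_zpow_apply]
    exact pow_mem_cyc s c _
  · rw [map_zero]; exact Submodule.zero_mem _
  · intro x y _ _ hx hy
    rw [map_add]; exact Submodule.add_mem _ hx hy
  · intro a x _ hx
    rw [map_smul]; exact Submodule.smul_mem _ _ hx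

theorem cyc_le (s : (Fin n → F) ≃ₗ[F] (Fin n → F)) {c : Fin n → F} {W : Submodule F (Fin n → F)}
    (hW : Inv s W) (hc : c ∈ W) : cyc s c ≤ W := by
  refine Submodule.span_le.2 ?_
  rintro _ ⟨i, rfl⟩
  exact hW i c hc

/-- The property of an anti-unitary involution on `W` inverting `s`. -/
structure JOn (q : ℕ) (s : (Fin n → F) ≃ₗ[F] (Fin n → F)) (W : Submodule F (Fin n → F))
    (J : (Fin n → F) → (Fin n → F)) : Prop where
  mem : ∀ w ∈ W, J w ∈ W
  add : ∀ w ∈ W, ∀ w' ∈ W, J (w + w') = J w + J w'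
  smul : ∀ (c : F), ∀ w ∈ W, J (c • w) = c ^ q • J w
  invol : ∀ w ∈ W, J (J w) = w
  herm : ∀ w ∈ W, ∀ w' ∈ W, hermForm n F q (J w) (J w') = hermForm n F q w w' ^ q
  conj : ∀ w ∈ W, J (s w) = s⁻¹ (J w)

variable {s : (Fin n → F) ≃ₗ[F] (Fin n → F)}

theorem herm_zpow (hs : ∀ u v, hermForm n F q (s u) (s v) = hermForm n F q u v) (i : ℤ) (u v : Fin n → F) :
    hermForm n F q ((s ^ i) u) ((s ^ i) v) = hermForm n F q u v := by
  have h1 : ∀ (k : ℕ) (u v : Fin n → F), hermForm n F q ((s ^ k) u) ((s ^ k) v) = hermForm n F q u v := by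
    intro k
    induction k with
    | zero => intro u v; rfl
    | succ k ih =>
      intro u v
      rw [pow_succ']
      show hermForm n F q (s ((s ^ k) u)) (s ((s ^ k) v)) = _
      rw [hs, ih]
  have h2 : ∀ u v : Fin n → F, hermForm n F q (s⁻¹ u) (s⁻¹ v) = hermForm n F q u v := by
    intro u v
    rw [← hs (s⁻¹ u) (s⁻¹ v)]
    have e : ∀ w, s (s⁻¹ w) = w := fun w => s.apply_symm_apply w
    rw [e, e]
  cases i with
  | ofNat k => exact h1 k u v
  | negSucc k =>
    rw [zpow_negSucc]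
    have h3 := h1 (k + 1) ((s ^ (k + 1))⁻¹ u) ((s ^ (k + 1))⁻¹ v)
    have e : ∀ w, (s ^ (k + 1)) ((s ^ (k + 1))⁻¹ w) = w := fun w => (s ^ (k + 1)).apply_symm_apply w
    rw [e, e] at h3
    exact h3.symm

theorem herm_zpow_move (hs : ∀ u v, hermForm n F q (s u) (s v) = hermForm n F q u v) (i : ℤ) (u v : Fin n → F) :
    hermForm n F q ((s ^ i) u) v = hermForm n F q u ((s ^ (-i)) v) := by
  rw [← herm_zpow hs (-i) ((s ^ i) u) v, zpow_zpow_apply, neg_add_cancel, zpow_zero]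
  rfl

theorem inv_perp (hF : Fintype.card F = q ^ 2) (hs : ∀ u v, hermForm n F q (s u) (s v) = hermForm n F q u v)
    {W : Submodule F (Fin n → F)} (hW : Inv s W) : Inv s (perp hF W) := by
  intro i v hv w hw
  rw [herm_zpow_move hs]
  exact hv _ (hW _ _ hw)

/-- `J` on a non-degenerate cyclic subspace. -/
theorem exists_J_cyc (hF : Fintype.card F = q ^ 2)
    (hs : ∀ u v, hermForm n F q (s u) (s v) = hermForm n F q u v) (c : Fin n → F) (hc : ND q (cyc s c)) :
    ∃ J, JOn q s (cyc s c) J := by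
  -- uniqueness
  have huniq : ∀ x ∈ cyc s c, ∀ y ∈ cyc s c,
      (∀ j : ℤ, hermForm n F q x ((s ^ j) c) = hermForm n F q y ((s ^ j) c)) → x = y := by
    intro x hx y hy h
    have h1 : x - y = 0 := by
      apply hc (x - y) (Submodule.sub_mem _ hx hy)
      intro w' hw'
      refine Submodule.span_induction (p := fun w' _ => hermForm n F q (x - y) w' = 0) ?_ ?_ ?_ ?_ hw'
      · rintro _ ⟨j, rfl⟩
        simp only
        rw [herm_sub_left, h j, sub_self]
      · exact herm_zero_right hF _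
      · intro a b _ _ ha hb
        rw [herm_add_right hF, ha, hb, add_zero]
      · intro a b _ hb
        rw [herm_smul_right, hb, mul_zero]
    exact sub_eq_zero.1 h1
  -- existence
  have hex : ∀ w ∈ cyc s c, ∃ w' ∈ cyc s c, ∀ j : ℤ,
      hermForm n F q w' ((s ^ j) c) = hermForm n F q w ((s ^ (-j)) c) ^ q := by
    intro w hw
    refine Submodule.span_induction (p := fun w _ => ∃ w' ∈ cyc s c, ∀ j : ℤ,
      hermForm n F q w' ((s ^ j) c) = hermForm n F q w ((s ^ (-j)) c) ^ q) ?_ ?_ ?_ ?_ hw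
    · rintro _ ⟨i, rfl⟩
      refine ⟨(s ^ (-i)) c, pow_mem_cyc s c _, fun j => ?_⟩
      simp only
      rw [← herm_swap hF, herm_zpow_move hs, neg_neg, zpow_zpow_apply, herm_zpow_move hs, neg_neg,
        zpow_zpow_apply, add_comm j i]
    · refine ⟨0, Submodule.zero_mem _, fun j => ?_⟩
      rw [herm_zero_left, herm_zero_left, zero_pow_q hF]
    · rintro x y _ _ ⟨x', hx', hx⟩ ⟨y', hy', hy⟩
      refine ⟨x' + y', Submodule.add_mem _ hx' hy', fun j => ?_⟩
      rw [herm_add_left, herm_add_left, add_pow_q hF, hx, hy]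
    · rintro a x _ ⟨x', hx', hx⟩
      refine ⟨a ^ q • x', Submodule.smul_mem _ _ hx', fun j => ?_⟩
      rw [herm_smul_left, herm_smul_left, mul_pow, hx]
  choose! J hJm hJ using hex
  have hJpow : ∀ i : ℤ, J ((s ^ i) c) = (s ^ (-i)) c := by
    intro i
    apply huniq _ (hJm _ (pow_mem_cyc s c i)) _ (pow_mem_cyc s c _)
    intro j
    rw [hJ _ (pow_mem_cyc s c i), ← herm_swap hF, herm_zpow_move hs, neg_neg, zpow_zpow_apply,
      herm_zpow_move hs (-i), neg_neg, zpow_zpow_apply, add_comm j i]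
  have hadd : ∀ w ∈ cyc s c, ∀ w' ∈ cyc s c, J (w + w') = J w + J w' := by
    intro w hw w' hw'
    apply huniq _ (hJm _ (Submodule.add_mem _ hw hw')) _ (Submodule.add_mem _ (hJm _ hw) (hJm _ hw'))
    intro j
    rw [hJ _ (Submodule.add_mem _ hw hw'), herm_add_left, herm_add_left, add_pow_q hF, hJ _ hw, hJ _ hw']
  have hsmul : ∀ (a : F), ∀ w ∈ cyc s c, J (a • w) = a ^ q • J w := by
    intro a w hw
    apply huniq _ (hJm _ (Submodule.smul_mem _ _ hw)) _ (Submodule.smul_mem _ _ (hJm _ hw))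
    intro j
    rw [hJ _ (Submodule.smul_mem _ _ hw), herm_smul_left, herm_smul_left, mul_pow, hJ _ hw]
  refine ⟨J, hJm, hadd, hsmul, ?_, ?_, ?_⟩
  · intro w hw
    apply huniq _ (hJm _ (hJm _ hw)) _ hw
    intro j
    rw [hJ _ (hJm _ hw), hJ _ hw, neg_neg, pow_q_pow_q hF]
  · intro w hw w' hw'
    refine Submodule.span_induction (p := fun w' _ => hermForm n F q (J w) (J w') = hermForm n F q w w' ^ q)
      ?_ ?_ ?_ ?_ hw'
    · rintro _ ⟨i, rfl⟩
      simp only
      rw [hJpow, hJ _ hw, neg_neg]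
    · have h0 : J 0 = 0 := by
        have := hsmul 0 w hw
        rwa [zero_smul, zero_pow_q hF, zero_smul] at this
      rw [h0, herm_zero_right hF, herm_zero_right hF, zero_pow_q hF]
    · intro x y hx' hy' hx hy
      rw [hadd x hx' y hy', herm_add_right hF, hx, hy, herm_add_right hF, add_pow_q hF]
    · intro a x hx' hx
      rw [hsmul a x hx', herm_smul_right, hx, herm_smul_right, mul_pow]
  · intro w hw
    have hsw : s w ∈ cyc s c := by
      have := inv_cyc s c 1 w hw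
      rwa [zpow_one] at this
    have hsJ : s⁻¹ (J w) ∈ cyc s c := by
      have := inv_cyc s c (-1) _ (hJm _ hw)
      rwa [zpow_neg_one] at this
    apply huniq _ (hJm _ hsw) _ hsJ
    intro j
    rw [hJ _ hsw]
    have e1 : s w = (s ^ (1 : ℤ)) w := by rw [zpow_one]
    have e2 : s⁻¹ (J w) = (s ^ (-1 : ℤ)) (J w) := by rw [zpow_neg_one]
    rw [e1, e2, herm_zpow_move hs, herm_zpow_move hs, zpow_zpow_apply, zpow_zpow_apply, hJ _ hw]
    congr 4
    ring

/-- Gluing two orthogonal subspaces. -/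
theorem glue (hF : Fintype.card F = q ^ 2) {W₁ W₂ : Submodule F (Fin n → F)} {J₁ J₂ : (Fin n → F) → (Fin n → F)}
    (h1 : JOn q s W₁ J₁) (h2 : JOn q s W₂ J₂) (hi1 : Inv s W₁) (hi2 : Inv s W₂) (hnd : ND q W₁)
    (horth : ∀ w ∈ W₁, ∀ w' ∈ W₂, hermForm n F q w w' = 0) :
    ∃ J, JOn q s (W₁ ⊔ W₂) J := by
  have hdis : ∀ a ∈ W₁, ∀ b ∈ W₂, ∀ a' ∈ W₁, ∀ b' ∈ W₂, a + b = a' + b' → a = a' ∧ b = b' := by
    intro a ha b hb a' ha' b' hb' h
    have e : a - a' = b' - b := by
      rw [sub_eq_sub_iff_add_eq_add, h, add_comm]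
    have h3 : a - a' = 0 := by
      apply hnd _ (Submodule.sub_mem _ ha ha')
      intro w' hw'
      rw [e]
      exact herm_eq_zero_swap hF (horth _ hw' _ (Submodule.sub_mem _ hb' hb))
    have h4 : a = a' := sub_eq_zero.1 h3
    refine ⟨h4, ?_⟩
    rw [h4] at h
    exact add_left_cancel h
  have hdec : ∀ v ∈ W₁ ⊔ W₂, ∃ a ∈ W₁, ∃ b ∈ W₂, a + b = v := fun v hv => Submodule.mem_sup.1 hv
  choose! A hA B hB hAB using hdec
  have hAu : ∀ a ∈ W₁, ∀ b ∈ W₂, A (a + b) = a ∧ B (a + b) = b := by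
    intro a ha b hb
    have hm : a + b ∈ W₁ ⊔ W₂ := Submodule.add_mem_sup ha hb
    exact hdis _ (hA _ hm) _ (hB _ hm) _ ha _ hb (hAB _ hm)
  let J : (Fin n → F) → (Fin n → F) := fun v => J₁ (A v) + J₂ (B v)
  have hJ : ∀ a ∈ W₁, ∀ b ∈ W₂, J (a + b) = J₁ a + J₂ b := by
    intro a ha b hb
    show J₁ (A (a + b)) + J₂ (B (a + b)) = _
    rw [(hAu a ha b hb).1, (hAu a ha b hb).2]
  refine ⟨J, ?_, ?_, ?_, ?_, ?_, ?_⟩
  · intro v hv
    exact Submodule.add_mem_sup (h1.mem _ (hA v hv)) (h2.mem _ (hB v hv))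
  · intro v hv v' hv'
    obtain ⟨a, ha, b, hb, rfl⟩ := Submodule.mem_sup.1 hv
    obtain ⟨a', ha', b', hb', rfl⟩ := Submodule.mem_sup.1 hv'
    rw [add_add_add_comm, hJ _ (Submodule.add_mem _ ha ha') _ (Submodule.add_mem _ hb hb'), hJ a ha b hb,
      hJ a' ha' b' hb', h1.add a ha a' ha', h2.add b hb b' hb', add_add_add_comm]
  · intro c v hv
    obtain ⟨a, ha, b, hb, rfl⟩ := Submodule.mem_sup.1 hv
    rw [smul_add, hJ _ (Submodule.smul_mem _ _ ha) _ (Submodule.smul_mem _ _ hb), hJ a ha b hb, h1.smul c a ha,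
      h2.smul c b hb, smul_add]
  · intro v hv
    obtain ⟨a, ha, b, hb, rfl⟩ := Submodule.mem_sup.1 hv
    rw [hJ a ha b hb, hJ _ (h1.mem a ha) _ (h2.mem b hb), h1.invol a ha, h2.invol b hb]
  · intro v hv v' hv'
    obtain ⟨a, ha, b, hb, rfl⟩ := Submodule.mem_sup.1 hv
    obtain ⟨a', ha', b', hb', rfl⟩ := Submodule.mem_sup.1 hv'
    rw [hJ a ha b hb, hJ a' ha' b' hb']
    simp only [herm_add_left, herm_add_right hF]
    rw [h1.herm a ha a' ha', h2.herm b hb b' hb', horth a ha b' hb', horth _ (h1.mem a ha) _ (h2.mem b' hb'),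
      herm_eq_zero_swap hF (horth a' ha' b hb), herm_eq_zero_swap hF (horth _ (h1.mem a' ha') _ (h2.mem b hb)),
      add_zero, zero_add, add_zero, zero_add, add_pow_q hF]
  · intro v hv
    obtain ⟨a, ha, b, hb, rfl⟩ := Submodule.mem_sup.1 hv
    have hsa : s a ∈ W₁ := by have := hi1 1 a ha; rwa [zpow_one] at this
    have hsb : s b ∈ W₂ := by have := hi2 1 b hb; rwa [zpow_one] at this
    rw [map_add, hJ _ hsa _ hsb, hJ a ha b hb, h1.conj a ha, h2.conj b hb, map_add]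

end Cfsg.Agent.H373.HermJ
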