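import Cfsg.Agent.H373.Outer
import Cfsg.Agent.S0278
import Cfsg.Agent.H373.Eight
import Cfsg.Agent.ClassicalGeometry.PSUAutMain

/-!
# Automorphisms of `PSU 5 F q` whose field part has odd order (helper373)
-/

set_option autoImplicit false
set_option linter.unusedSectionVars false

namespace Cfsg.Agent.H373.OuterOdd

open Matrix Cfsg Cfsg.Agent.LieClassical.HermBasic Cfsg.Agent.LieClassical.HermSiegel
open Cfsg.Agent.CpAut.Psl (fixf mem_fixf)
open Cfsg.Agent.CpAutU.Fld Cfsg.Agent.CpAutU.Desc Cfsg.Agent.CpAutU.Fixed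
open Cfsg.Agent.ClassicalGeometry.PSUAutCount (gm semiConj toAut gm_mul gm_one gm_mul_inv gm_inv_mul eq_of_toAut_eq
  sc gm_sc_mul toAut_sc_mul herm_gm act_semiConj herm_semi gm_mulVec_inv gm_inv_mulVec gm_inj)
open Cfsg.Agent.ClassicalGeometry.PSUAutBasic
open Cfsg.Agent.Schreier.PSU (f₁ f₂ toAut_eq mapGU conj_field toAut_pr' gm_mapGU)
open Cfsg.Agent.H373.Outer

universe u

section Arith

/-- Lifting the exponent. -/
theorem five_pow_dvd {Q k v : ℕ} (hQ : Q % 5 = 1) (hk : k ≠ 0) (h : 5 ^ v ∣ ∑ i ∈ Finset.range k, Q ^ i) :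
    5 ^ v ∣ k := by
  have h5 : Fact (Nat.Prime 5) := ⟨by norm_num⟩
  rcases Nat.lt_or_ge 1 Q with hQ1 | hQ1
  · have h1 : (∑ i ∈ Finset.range k, Q ^ i) * (Q - 1) = Q ^ k - 1 ^ k := by
      have h2 := geom_sum_mul (Q : ℤ) k
      have h3 : 1 ≤ Q ^ k := Nat.one_le_pow _ _ (by omega)
      rw [one_pow]
      zify [h3, hQ1.le]
      exact h2
    have h2 : padicValNat 5 (Q ^ k - 1 ^ k) = padicValNat 5 (Q - 1) + padicValNat 5 k :=
      padicValNat.pow_sub_pow (p := 5) (by decide) hQ1 (by omega) (by omega) hk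
    have hS : (∑ i ∈ Finset.range k, Q ^ i) ≠ 0 := by
      intro h0
      rw [h0, zero_mul] at h1
      have : 1 < Q ^ k := Nat.one_lt_pow hk hQ1
      rw [one_pow] at h1
      omega
    have h3 : padicValNat 5 (∑ i ∈ Finset.range k, Q ^ i) = padicValNat 5 k := by
      rw [← h1, padicValNat.mul hS (by omega)] at h2
      omega
    rw [padicValNat_dvd_iff_le hk, ← h3]
    exact (padicValNat_dvd_iff_le hS).1 h
  · have h1 : Q = 1 := by omega
    subst h1
    simpa using h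

end Arith

section Field

variable {F : Type u} [Field F] [Fintype F] {q : ℕ}

/-- The elements of the fixed field. -/
theorem mem_of_pow {ρ : F ≃+* F} {z : F} (hz : z ^ Nat.card ↥(fixf ρ) = z) : ρ z = z := by
  classical
  set c := Nat.card ↥(fixf ρ) with hc
  have hc2 : 2 ≤ c := two_le_card ρ
  have : Fintype ↥(fixf ρ) := Fintype.ofFinite _
  let P : Polynomial F := Polynomial.X ^ c - Polynomial.X
  have hP : P.natDegree = c := FiniteField.X_pow_card_sub_X_natDegree_eq F (by omega)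
  have hP0 : P ≠ 0 := by
    intro h
    rw [h, Polynomial.natDegree_zero] at hP
    omega
  let A : Finset F := Finset.univ.map ⟨fun y : ↥(fixf ρ) => (y : F), Subtype.val_injective⟩
  have hA : A ⊆ P.roots.toFinset := by
    intro y hy
    obtain ⟨w, -, rfl⟩ := Finset.mem_map.1 hy
    rw [Multiset.mem_toFinset, Polynomial.mem_roots hP0]
    have h1 := pow_card (σ := ρ) w.2
    simp only [P, Polynomial.IsRoot.def, Polynomial.eval_sub, Polynomial.eval_pow, Polynomial.eval_X]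
    exact sub_eq_zero.2 h1
  have hcard : P.roots.toFinset.card ≤ A.card := by
    rw [Finset.card_map, Finset.card_univ, ← Nat.card_eq_fintype_card, ← hc, ← hP]
    exact (Multiset.toFinset_card_le _).trans (Polynomial.card_roots' P)
  have h1 := Finset.eq_of_subset_of_card_le hA hcard
  have h2 : z ∈ P.roots.toFinset := by
    rw [Multiset.mem_toFinset, Polynomial.mem_roots hP0]
    simp only [P, Polynomial.IsRoot.def, Polynomial.eval_sub, Polynomial.eval_pow, Polynomial.eval_X]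
    exact sub_eq_zero.2 hz
  rw [← h1] at h2
  obtain ⟨w, -, rfl⟩ := Finset.mem_map.1 h2
  exact (mem_fixf).1 w.2

/-- Elements of norm one which are not fifth powers of such elements. -/
theorem not_fifth (hF : Fintype.card F = q ^ 2) {δ : F} (hδ : δ * δ ^ q = 1)
    (h : ¬ ∃ t : F, t * t ^ q = 1 ∧ δ = t ^ 5) : 5 ∣ q + 1 ∧ δ ^ ((q + 1) / 5) ≠ 1 := by
  have hδ1 : δ ^ (q + 1) = 1 := by rw [pow_succ', hδ]
  have hδ0 : δ ≠ 0 := by
    rintro rfl
    rw [zero_mul] at hδ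
    exact zero_ne_one hδ
  have hq := Cfsg.Agent.LieClassical.GUOrder.two_le hF
  have h5 : 5 ∣ q + 1 := by
    by_contra h5
    apply h
    have hcop : Nat.Coprime 5 (q + 1) := (Nat.Prime.coprime_iff_not_dvd (by norm_num)).2 h5
    obtain ⟨a, -, ha⟩ := Nat.exists_mul_mod_eq_one_of_coprime hcop (by omega)
    refine ⟨δ ^ a, ?_, ?_⟩
    · rw [← pow_succ', ← pow_mul, mul_comm, pow_mul, hδ1, one_pow]
    · rw [← pow_mul, mul_comm a 5]
      conv_lhs => rw [← pow_one δ]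
      rw [← Nat.div_add_mod (5 * a) (q + 1), ha, pow_add, pow_mul, hδ1, one_pow, one_mul]
  refine ⟨h5, fun h1 => h ?_⟩
  obtain ⟨g, hg⟩ := IsCyclic.exists_generator (α := Fˣ)
  have hgo : orderOf g = q ^ 2 - 1 := by
    rw [orderOf_eq_card_of_forall_mem_zpowers hg, Nat.card_units, Nat.card_eq_fintype_card, hF]
  obtain ⟨j, hj⟩ := (mem_powers_iff_mem_zpowers.2 (hg (Units.mk0 δ hδ0)))
  have hj' : g ^ j = Units.mk0 δ hδ0 := hj
  obtain ⟨w, hw⟩ := h5
  have hw' : (q + 1) / 5 = w := by omega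
  rw [hw'] at h1
  have h2 : g ^ (j * w) = 1 := by
    rw [pow_mul, hj']
    apply Units.ext
    rw [Units.val_pow_eq_pow_val, Units.val_mk0, h1, Units.val_one]
  have h3 : q ^ 2 - 1 ∣ j * w := by rw [← hgo]; exact orderOf_dvd_of_pow_eq_one h2
  have h4 : q ^ 2 - 1 = (5 * (q - 1)) * w := by
    have e : q ^ 2 - 1 = (q + 1) * (q - 1) := by
      have := Nat.sq_sub_sq q 1
      rwa [one_pow] at this
    rw [e, hw]; ring
  have hw0 : 0 < w := by omega
  rw [h4] at h3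
  obtain ⟨b, hb⟩ := Nat.dvd_of_mul_dvd_mul_right hw0 h3
  refine ⟨((g ^ ((q - 1) * b) : Fˣ) : F), ?_, ?_⟩
  · rw [← pow_succ', ← Units.val_pow_eq_pow_val, ← pow_mul]
    have h5 : q ^ 2 - 1 ∣ (q - 1) * b * (q + 1) := by
      refine ⟨b, ?_⟩
      have e : q ^ 2 - 1 = (q + 1) * (q - 1) := by
        have := Nat.sq_sub_sq q 1
        rwa [one_pow] at this
      rw [e]; ring
    rw [← hgo] at h5
    rw [orderOf_dvd_iff_pow_eq_one.1 h5, Units.val_one]
  · have h6 : δ = ((g ^ j : Fˣ) : F) := by rw [hj', Units.val_mk0]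
    rw [h6, ← Units.val_pow_eq_pow_val, ← pow_mul, hb]
    congr 2
    ring

/-- The `5`-part of an element of norm one which is not a fifth power. -/
theorem exists_five_part (hF : Fintype.card F = q ^ 2) {δ : F} (hδ : δ * δ ^ q = 1)
    (h : ¬ ∃ t : F, t * t ^ q = 1 ∧ δ = t ^ 5) :
    ∃ (v w : ℕ) (δ' t : F), q + 1 = 5 ^ v * w ∧ ¬ 5 ∣ w ∧ 1 ≤ v ∧ orderOf δ' = 5 ^ v ∧ t * t ^ q = 1 ∧
      δ' = δ * t ^ 5 := by
  obtain ⟨h5, h1⟩ := not_fifth hF hδ h
  have hδ1 : δ ^ (q + 1) = 1 := by rw [pow_succ', hδ]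
  obtain ⟨v, w, hw, hvw⟩ := Nat.exists_eq_pow_mul_and_not_dvd (n := q + 1) (by omega) 5 (by norm_num)
  have hv : 1 ≤ v := by
    rcases Nat.eq_zero_or_pos v with h0 | h0
    · subst h0
      rw [pow_zero, one_mul] at hvw
      rw [hvw] at h5
      exact absurd h5 hw
    · exact h0
  have hcop : Nat.Coprime w 5 := ((Nat.Prime.coprime_iff_not_dvd (by norm_num)).2 hw).symm
  obtain ⟨a, -, ha⟩ := Nat.exists_mul_mod_eq_one_of_coprime hcop (by norm_num)
  -- the exponent `w * a`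
  have hwa : w * a = 5 * (w * a / 5) + 1 := by
    have := Nat.div_add_mod (w * a) 5
    omega
  have h5v : 5 ^ v = 5 ^ (v - 1) * 5 := by rw [← pow_succ]; congr 1; omega
  refine ⟨v, w, δ ^ (w * a), δ ^ (w * a / 5), hvw, hw, hv, ?_, ?_, ?_⟩
  · have h5f : Fact (Nat.Prime 5) := ⟨by norm_num⟩
    have hvv : v = (v - 1) + 1 := by omega
    rw [hvv]
    refine orderOf_eq_prime_pow ?_ ?_
    · intro h2
      apply h1
      -- `δ ^ (w * a * 5 ^ (v - 1)) = 1`
      rw [← pow_mul] at h2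
      have h3 : (q + 1) / 5 = w * 5 ^ (v - 1) := by
        rw [hvw, h5v, mul_assoc, mul_comm 5 w, ← mul_assoc]
        rw [Nat.mul_div_cancel _ (by norm_num), mul_comm]
      rw [h3]
      have h4 : δ ^ (w * 5 ^ (v - 1) * 5) = 1 := by
        have e : w * 5 ^ (v - 1) * 5 = q + 1 := by rw [hvw, h5v]; ring
        rw [e, hδ1]
      have h5 : δ ^ (w * 5 ^ (v - 1) * a) = 1 := by
        rw [← h2]; congr 1; ring
      have h6 : Nat.Coprime a 5 := by
        rw [Nat.coprime_comm, Nat.Prime.coprime_iff_not_dvd (by norm_num)]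
        rintro ⟨b, rfl⟩
        have : w * (5 * b) % 5 = 0 := by
          rw [show w * (5 * b) = 5 * (w * b) by ring]; exact Nat.mul_mod_right 5 _
        omega
      rw [pow_mul] at h4 h5
      have h7 := Nat.dvd_gcd (orderOf_dvd_of_pow_eq_one h5) (orderOf_dvd_of_pow_eq_one h4)
      rw [h6] at h7
      exact orderOf_eq_one_iff.1 (Nat.dvd_one.1 h7)
    · rw [← pow_mul, ← hvv]
      have e : w * a * 5 ^ v = (q + 1) * a := by rw [hvw]; ring
      rw [e, pow_mul, hδ1, one_pow]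
  · rw [← pow_succ', ← pow_mul, mul_comm, pow_mul, hδ1, one_pow]
  · rw [← pow_mul, mul_comm (w * a / 5) 5]
    conv_lhs => rw [hwa, pow_succ', ]

end Field

section Main

variable {F : Type u} [Field F] [Fintype F] {q : ℕ}

/-- `diag (c, 1, 1, 1, 1)`. -/
def D (q : ℕ) (c : F) (hc : c ^ (q + 1) = 1) : GU 5 F q :=
  Cfsg.Agent.ClassicalGeometry.GUBasic.guDiag q (fun i => if i = 0 then c else 1) (fun i => by
    by_cases hi : i = 0
    · rw [if_pos hi, hc]
    · rw [if_neg hi, one_pow])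

theorem gm_D (c : F) (hc : c ^ (q + 1) = 1) :
    gm (D q c hc) = Matrix.diagonal (fun i : Fin 5 => if i = 0 then c else 1) := rfl

theorem det_D (c : F) (hc : c ^ (q + 1) = 1) : (gm (D q c hc)).det = c := by
  rw [gm_D, Matrix.det_diagonal, Fin.prod_univ_succ, if_pos rfl]
  rw [Finset.prod_eq_one, mul_one]
  intro i _
  rw [if_neg (Fin.succ_ne_zero i)]

theorem D_mul (c c' : F) (hc : c ^ (q + 1) = 1) (hc' : c' ^ (q + 1) = 1) (h : (c * c') ^ (q + 1) = 1) :
    D q c hc * D q c' hc' = D q (c * c') h := by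
  apply gm_inj
  rw [gm_mul, gm_D, gm_D, gm_D, Matrix.diagonal_mul_diagonal]
  congr 1
  funext i
  by_cases hi : i = 0
  · rw [if_pos hi, if_pos hi, if_pos hi]
  · rw [if_neg hi, if_neg hi, if_neg hi, mul_one]

theorem mapGU_D (ρ : F ≃+* F) (c : F) (hc : c ^ (q + 1) = 1) (h : (ρ c) ^ (q + 1) = 1) :
    mapGU ρ (D q c hc) = D q (ρ c) h := by
  apply gm_inj
  rw [gm_mapGU', gm_D, gm_D]
  ext i j
  rw [Matrix.map_apply, Matrix.diagonal_apply, Matrix.diagonal_apply]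
  by_cases hij : i = j
  · rw [if_pos hij, if_pos hij]
    by_cases hi : i = 0
    · rw [if_pos hi, if_pos hi]
    · rw [if_neg hi, if_neg hi, map_one]
  · rw [if_neg hij, if_neg hij, map_zero]

/-- Powers of `toAut (D c) ρ`. -/
theorem pow_D (ρ : F ≃+* F) (c : F) (hc : c ^ (q + 1) = 1) (Q : ℕ) (hQ : ρ c = c ^ Q) (k : ℕ) :
    ∃ h : (c ^ ∑ i ∈ Finset.range k, Q ^ i) ^ (q + 1) = 1,
      toAut (D q c hc) ρ ^ k = toAut (D q (c ^ ∑ i ∈ Finset.range k, Q ^ i) h) (ρ ^ k) := by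
  have hQi : ∀ i : ℕ, (ρ ^ i) c = c ^ Q ^ i := by
    intro i
    induction i with
    | zero => rw [pow_zero, pow_zero, pow_one]; rfl
    | succ i ih => rw [pow_succ', RingAut.mul_apply, ih, map_pow, hQ, ← pow_mul, pow_succ']
  induction k with
  | zero =>
    refine ⟨by simp, ?_⟩
    rw [pow_zero, pow_zero]
    have h1 : ∀ (h : (c ^ ∑ i ∈ Finset.range 0, Q ^ i) ^ (q + 1) = 1), D q (c ^ ∑ i ∈ Finset.range 0, Q ^ i) h = 1 := by
      intro h
      apply gm_inj
      rw [gm_D, gm_one]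
      ext i j
      rw [Matrix.diagonal_apply, Matrix.one_apply]
      simp
    rw [h1, toAut_one]
  | succ k ih =>
    obtain ⟨h, ih⟩ := ih
    have h' : (c ^ ∑ i ∈ Finset.range (k + 1), Q ^ i) ^ (q + 1) = 1 := by
      rw [← pow_mul, mul_comm, pow_mul, hc, one_pow]
    refine ⟨h', ?_⟩
    have h2 : ((ρ ^ k) c) ^ (q + 1) = 1 := by rw [← map_pow, hc, map_one]
    have h3 : (c ^ (∑ i ∈ Finset.range k, Q ^ i) * (ρ ^ k) c) ^ (q + 1) = 1 := by rw [mul_pow, h, h2, one_mul]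
    rw [pow_succ, ih, toAut_mul, mapGU_D (ρ ^ k) c hc h2, D_mul _ _ h h2 h3, pow_succ ρ k]
    congr 1
    apply gm_inj
    rw [gm_D, gm_D, hQi k, ← pow_add, ← Finset.sum_range_succ]

/-- If a power of `toAut (D c) ρ` is trivial. -/
theorem eq_one_of_pow_D (hF : Fintype.card F = q ^ 2) (ρ : F ≃+* F) (c : F) (hc : c ^ (q + 1) = 1) (Q : ℕ)
    (hQ : ρ c = c ^ Q) {k : ℕ} (hk : toAut (D q c hc) ρ ^ k = 1) : c ^ ∑ i ∈ Finset.range k, Q ^ i = 1 := by
  obtain ⟨h, h1⟩ := pow_D ρ c hc Q hQ k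
  rw [hk] at h1
  obtain ⟨-, b, -, h2⟩ := eq_of_toAut_eq (A := 1) (ρ := 1) hF (by norm_num)
    ((toAut_one (F := F) (n := 5) (q := q)).trans h1)
  rw [gm_D, gm_one] at h2
  have h3 := congrFun (congrFun h2 0) 0
  have h4 := congrFun (congrFun h2 1) 1
  rw [Matrix.diagonal_apply_eq, if_pos rfl, Matrix.smul_apply, Matrix.one_apply_eq, smul_eq_mul, mul_one] at h3
  rw [Matrix.diagonal_apply_eq, if_neg (by decide), Matrix.smul_apply, Matrix.one_apply_eq, smul_eq_mul, mul_one] at h4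
  rw [h3, ← h4]

end Main

section Ext

open Cfsg.Agent.LieClassical.GUOrder (ext1 ext1_isom det_ext1)

theorem ext1_mul {K : Type u} [Field K] {n : ℕ} (A B : Matrix (Fin n) (Fin n) K) :
    ext1 1 A * ext1 1 B = ext1 1 (A * B) := by
  ext i j
  refine Fin.cases ?_ (fun i => ?_) i <;> refine Fin.cases ?_ (fun j => ?_) j <;>
    simp [ext1, Matrix.mul_apply, Fin.sum_univ_succ]

theorem ext1_one {K : Type u} [Field K] {n : ℕ} : ext1 1 (1 : Matrix (Fin n) (Fin n) K) = 1 := by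
  ext i j
  refine Fin.cases ?_ (fun i => ?_) i <;> refine Fin.cases ?_ (fun j => ?_) j <;>
    simp [ext1, Matrix.one_apply, Fin.ext_iff]

theorem ext1_inj {K : Type u} [Field K] {n : ℕ} {A B : Matrix (Fin n) (Fin n) K} (h : ext1 1 A = ext1 1 B) : A = B := by
  ext i j
  have := congrFun (congrFun h i.succ) j.succ
  simpa [ext1] using this

/-- The embedding `SU 4 → SU 5`. -/
def incl (K : Type u) [Field K] [Fintype K] (s : ℕ) : SU 4 K s →* SU 5 K s where
  toFun g := mkSU (ext1 1 (mat g)) (by rw [det_ext1, one_mul]; exact Matrix.SpecialLinearGroup.det_coe _)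
    (ext1_isom 1 (one_pow _) (mat g) (fun u v => (mem_SU_iff g.1).1 g.2 u v))
  map_one' := by
    apply mat_injective
    exact ext1_one
  map_mul' g h := by
    apply mat_injective
    exact (ext1_mul (mat g) (mat h)).symm

theorem mat_incl {K : Type u} [Field K] [Fintype K] {s : ℕ} (g : SU 4 K s) : mat (incl K s g) = ext1 1 (mat g) := rfl

theorem incl_injective {K : Type u} [Field K] [Fintype K] {s : ℕ} : Function.Injective (incl K s) := by
  intro g h hgh
  apply mat_injective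
  exact ext1_inj (congrArg mat hgh)

end Ext

section Main2

variable {F : Type u} [Field F] [Fintype F] {q s : ℕ} {ρ : F ≃+* F}

/-- A matrix commuting with `D c`. -/
theorem comm_D (hF : Fintype.card F = q ^ 2) (hpow : ∀ a ∈ fixf ρ, a ^ q = a ^ s) [Fintype ↥(fixf ρ)]
    (g : SU 4 ↥(fixf ρ) s) (c : F) (hc : c ^ (q + 1) = 1) :
    gm (D q c hc) * mat (embSU hF hpow (incl _ s g)) = mat (embSU hF hpow (incl _ s g)) * gm (D q c hc) := by
  rw [gm_D, mat_embSU, mat_incl]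
  ext i j
  rw [Matrix.diagonal_mul, Matrix.mul_diagonal, Matrix.map_apply]
  refine Fin.cases ?_ (fun i => ?_) i <;> refine Fin.cases ?_ (fun j => ?_) j
  · rw [mul_comm]
  · have : Cfsg.Agent.LieClassical.GUOrder.ext1 (1 : ↥(fixf ρ)) (mat g) 0 (Fin.succ j) = 0 := by
      simp [Cfsg.Agent.LieClassical.GUOrder.ext1]
    rw [this, map_zero, mul_zero, zero_mul]
  · have : Cfsg.Agent.LieClassical.GUOrder.ext1 (1 : ↥(fixf ρ)) (mat g) (Fin.succ i) 0 = 0 := by
      simp [Cfsg.Agent.LieClassical.GUOrder.ext1]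
    rw [this, map_zero, mul_zero, zero_mul]
  · rw [if_neg (Fin.succ_ne_zero i), if_neg (Fin.succ_ne_zero j), one_mul, mul_one]

theorem semiConj_D (hF : Fintype.card F = q ^ 2) (hpow : ∀ a ∈ fixf ρ, a ^ q = a ^ s) [Fintype ↥(fixf ρ)]
    (g : SU 4 ↥(fixf ρ) s) (c : F) (hc : c ^ (q + 1) = 1) :
    semiConj (D q c hc) 1 (embSU hF hpow (incl _ s g)) = embSU hF hpow (incl _ s g) := by
  apply ext_act
  intro x
  have hx : x = gm (D q c hc) *ᵥ (gm (D q c hc)⁻¹ *ᵥ x) := (gm_mulVec_inv _ x).symm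
  rw [hx]
  generalize gm (D q c hc)⁻¹ *ᵥ x = y
  rw [Cfsg.Agent.Schreier.PSU.act_semiConj_one, act_def, act_def, Matrix.mulVec_mulVec, Matrix.mulVec_mulVec,
    comm_D hF hpow g c hc]

theorem card_fix (hF : Fintype.card F = q ^ 2) (hodd : Odd (orderOf ρ)) [Fintype ↥(fixf ρ)] :
    ∃ s, 2 ≤ s ∧ Fintype.card ↥(fixf ρ) = s ^ 2 ∧ q = s ^ orderOf ρ ∧ ∀ a ∈ fixf ρ, a ^ q = a ^ s := by
  obtain ⟨s, hs2, hs, hqs⟩ := exists_s' hF rfl hodd
  exact ⟨s, hs2, by rw [← Nat.card_eq_fintype_card, hs], hqs, fun a ha => pow_q hodd hs hqs ha⟩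

theorem commute_of_fixed {G : Type*} [Group G] (β : MulAut G) {y : G} (h : β y = y) : Commute β (MulAut.conj y) := by
  show β * _ = _ * β
  ext z
  simp only [MulAut.mul_apply, MulAut.conj_apply, map_mul, map_inv, h]

/-- **The determinant is not a fifth power.** -/
theorem case_two [CharP F 2] (hF : Fintype.card F = q ^ 2) (hq : Even q)
    (hZ : Subgroup.center (PSU 5 F q) = ⊥) {B : GU 5 F q} (hodd : Odd (orderOf ρ))
    {A : Subgroup (MulAut (PSU 5 F q))} (hA : Inn 5 F q ≤ A) (hB : toAut B ρ ∈ A)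
    (hδ : ¬ ∃ t : F, t * t ^ q = 1 ∧ (gm B).det = t ^ 5) :
    ∃ ℓ v w : ℕ, ℓ.Prime ∧ ℓ ≠ 2 ∧ ℓ ∣ q ^ 2 + 1 ∧ q + 1 = 5 ^ v * w ∧ ¬ 5 ∣ w ∧ 1 ≤ v ∧
      ∃ a ∈ A, orderOf a = 5 ^ v * ℓ := by
  have : Fintype ↥(fixf ρ) := Fintype.ofFinite _
  obtain ⟨s, hs2, hs, hqs, hpow⟩ := card_fix hF hodd
  have hseven : Even s := by
    rw [hqs] at hq
    exact (Nat.even_pow.1 hq).1
  obtain ⟨v, w, δ', t, hvw, hw, hv, hδ', ht, hδt⟩ := exists_five_part hF (det_unit hF B) hδ
  have h5q : 5 ∣ q + 1 := by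
    rw [hvw]; exact (dvd_pow_self 5 (by omega)).mul_right _
  -- `5 ∣ s + 1`
  have h5s : 5 ∣ s + 1 := by
    obtain ⟨j, hj⟩ := hodd
    have h1 : ((s : ZMod 5)) ^ (2 * j + 1) = -1 := by
      have h2 : ((q + 1 : ℕ) : ZMod 5) = 0 := (ZMod.natCast_eq_zero_iff _ _).2 h5q
      rw [hqs, hj] at h2
      push_cast at h2
      exact eq_neg_of_add_eq_zero_left h2
    have h3 : ((s : ZMod 5)) ^ 2 = 1 ∨ ((s : ZMod 5)) ^ 2 = -1 ∨ (s : ZMod 5) = 0 := by
      generalize (s : ZMod 5) = x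
      revert x
      decide
    have h4 : ((s + 1 : ℕ) : ZMod 5) = 0 := by
      push_cast
      rcases h3 with h3 | h3 | h3
      · rw [pow_succ, pow_mul, h3, one_pow, one_mul] at h1
        rw [h1]; ring
      · exfalso
        rw [pow_succ, pow_mul, h3] at h1
        rcases neg_one_pow_eq_or (ZMod 5) j with h5 | h5
        · rw [h5, one_mul] at h1
          rw [h1] at h3
          exact absurd h3 (by decide)
        · rw [h5] at h1
          have h6 : (s : ZMod 5) = 1 := by linear_combination -h1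
          rw [h6] at h3
          exact absurd h3 (by decide)
      · exfalso
        rw [h3, zero_pow (by omega)] at h1
        exact absurd h1 (by decide)
    exact (ZMod.natCast_eq_zero_iff _ _).1 h4
  -- the prime `ℓ`
  have hs21 : s ^ 2 + 1 ≠ 1 := by
    have := Nat.one_le_pow 2 s (by omega)
    omega
  obtain ⟨ℓ, hℓ, hℓs⟩ := Nat.exists_prime_and_dvd (n := s ^ 2 + 1) hs21
  have hs2e : Even (s ^ 2) := (Nat.even_pow).2 ⟨hseven, by norm_num⟩
  have hℓ2 : ℓ ≠ 2 := by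
    rintro rfl
    obtain ⟨j, hj⟩ := hs2e
    omega
  have hℓq : ℓ ∣ q ^ 2 + 1 := by
    refine hℓs.trans ?_
    have h1 := Odd.nat_add_dvd_pow_add_pow (s ^ 2) 1 hodd
    rwa [one_pow, ← pow_mul, mul_comm 2, pow_mul, ← hqs] at h1
  have hℓ5 : ℓ ≠ 5 := by
    rintro rfl
    obtain ⟨x, hx⟩ := h5s
    obtain ⟨y, hy⟩ := hℓs
    have h1 : s = 5 * x - 1 := by omega
    have h2 : 1 ≤ 5 * x := by omega
    zify [h2] at h1
    have h3 : ((s : ℤ)) ^ 2 + 1 = 5 * y := by exact_mod_cast hy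
    rw [h1] at h3
    have h4 : (5 * x - 1 : ℤ) ^ 2 + 1 = 5 * (5 * x ^ 2 - 2 * x) + 2 := by ring
    rw [h4] at h3
    omega
  have hfact := Fact.mk hℓ
  -- an element of order `ℓ`
  have hℓcard : ℓ ∣ Nat.card (SU 4 ↥(fixf ρ) s) := by
    have h1 := Cfsg.Agent.S0278.result hs 4 (by norm_num)
    have h2 : ℓ ∣ (s + 1) * Nat.card (SU 4 ↥(fixf ρ) s) := by
      rw [h1]
      refine Dvd.dvd.mul_left ?_ _
      refine dvd_trans ?_ (Finset.dvd_prod_of_mem _ (Finset.mem_range.2 (by norm_num : 3 < 4)))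
      rw [if_neg (by decide)]
      have e : s ^ (3 + 1) - 1 = (s ^ 2 + 1) * (s ^ 2 - 1) := by
        have := Nat.sq_sub_sq (s ^ 2) 1
        rw [one_pow, ← pow_mul] at this
        exact this
      rw [e]
      exact hℓs.mul_right _
    refine (hℓ.dvd_mul.1 h2).resolve_left fun h3 => ?_
    have h4 := Nat.dvd_gcd hℓs h3
    rw [SpEmb.coprime_sq hseven] at h4
    exact hℓ.one_lt.ne' (Nat.dvd_one.1 h4)
  obtain ⟨g, hg⟩ := exists_prime_orderOf_dvd_card' (G := SU 4 ↥(fixf ρ) s) ℓ hℓcard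
  set X : SU 5 F q := embSU hF hpow (incl _ s g) with hX
  have hXo : orderOf X = ℓ := by
    rw [hX, orderOf_injective _ (embSU_injective hF hpow), orderOf_injective _ incl_injective, hg]
  set y : PSU 5 F q := pr 5 F q X with hy
  have hyo : orderOf y = ℓ := by
    rw [hy, SpEmb.orderOf_pr hF (by norm_num), hXo]
    rw [hXo]
    exact Nat.Coprime.coprime_dvd_left hℓq (SpEmb.coprime_sq hq)
  have hδ'1 : δ' ^ (q + 1) = 1 := by
    rw [hvw, pow_mul, ← hδ', pow_orderOf_eq_one, one_pow]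
  -- the automorphism `β`
  set β : MulAut (PSU 5 F q) := toAut (D q δ' hδ'1) ρ with hβ
  have hβA : β ∈ A := by
    refine mem_of_mul_inv (b := toAut B ρ) (hA ?_) hB
    have h1 : β * (toAut B ρ)⁻¹ = f₁ (D q δ' hδ'1 * B⁻¹) := by
      rw [hβ, toAut_eq, toAut_eq, _root_.mul_inv_rev, map_mul f₁ _ B⁻¹, map_inv]
      group
    rw [h1]
    refine inn_of_det ht ?_
    rw [det_gm_mul, det_D, hδt]
    have h3 := det_gm_inv B
    linear_combination (t ^ 5) * h3
  have hβy : β y = y := by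
    have h1 : (f₂ ρ : MulAut (PSU 5 F q)) y = y :=
      (toAut_pr' 1 ρ X).trans (congrArg (pr 5 F q) (semiConj_embSU hF hpow _))
    have h2 : (f₁ (D q δ' hδ'1) : MulAut (PSU 5 F q)) y = y :=
      (toAut_pr' (D q δ' hδ'1) 1 X).trans (congrArg (pr 5 F q) (semiConj_D hF hpow g δ' hδ'1))
    rw [hβ, toAut_eq, MulAut.mul_apply, h1, h2]
  -- the action of `ρ` on `δ'`
  have hprim : IsPrimitiveRoot δ' (5 ^ v) := hδ' ▸ IsPrimitiveRoot.orderOf δ'
  have : NeZero (5 ^ v) := ⟨by positivity⟩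
  obtain ⟨Q, -, hQ⟩ := hprim.eq_pow_of_pow_eq_one (ξ := ρ δ') (by
    rw [← map_pow, hprim.pow_eq_one, map_one])
  have hQ5 : Q % 5 = 1 := by
    have hvv : 5 ^ v = 5 ^ (v - 1) * 5 := by rw [← pow_succ]; congr 1; omega
    have hz : orderOf (δ' ^ 5 ^ (v - 1)) = 5 := by
      rw [orderOf_pow_of_dvd (by positivity) (by rw [hδ', hvv]; exact dvd_mul_right _ _), hδ', hvv,
        Nat.mul_div_cancel_left _ (by positivity)]
    have h1 : ρ (δ' ^ 5 ^ (v - 1)) = δ' ^ 5 ^ (v - 1) := by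
      apply mem_of_pow
      rw [Nat.card_eq_fintype_card, hs]
      obtain ⟨x, hx⟩ := h5s
      have h2 : s ^ 2 = 5 * (x * (s - 1)) + 1 := by
        have h3 : s ^ 2 - 1 = (s + 1) * (s - 1) := by
          have := Nat.sq_sub_sq s 1
          rwa [one_pow] at this
        have h4 : 1 ≤ s ^ 2 := Nat.one_le_pow _ _ (by omega)
        rw [hx] at h3
        have h5 : 5 * x * (s - 1) = 5 * (x * (s - 1)) := by ring
        omega
      rw [h2, pow_succ, pow_mul]
      conv_lhs => rw [show (δ' ^ 5 ^ (v - 1)) ^ 5 = 1 from by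
        rw [← orderOf_dvd_iff_pow_eq_one, hz]]
      rw [one_pow, one_mul]
    have h2 : (δ' ^ 5 ^ (v - 1)) ^ Q = (δ' ^ 5 ^ (v - 1)) ^ 1 := by
      rw [pow_one, ← pow_mul, mul_comm, pow_mul, hQ, ← map_pow, h1]
    set ζ := δ' ^ 5 ^ (v - 1) with hζ
    have hζ5 : ζ ^ 5 = 1 := by rw [← orderOf_dvd_iff_pow_eq_one, hz]
    have h3 : ζ ^ (Q % 5) = ζ ^ 1 := by
      rw [← h2]
      conv_rhs => rw [← Nat.div_add_mod Q 5, pow_add, pow_mul, hζ5, one_pow, one_mul]
    exact pow_injOn_Iio_orderOf (x := ζ) (by rw [hz]; exact Nat.mod_lt _ (by norm_num)) (by rw [hz]; norm_num) h3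
  have hfin : Finite (MulAut (PSU 5 F q)) := inferInstance
  have hk := orderOf_pos β
  have h5k : 5 ^ v ∣ orderOf β := by
    have h1 := eq_one_of_pow_D hF ρ δ' hδ'1 Q hQ.symm (pow_orderOf_eq_one β)
    refine five_pow_dvd hQ5 (by omega) ?_
    rw [← hδ']
    exact orderOf_dvd_of_pow_eq_one h1
  obtain ⟨j, hj⟩ := h5k
  have hj0 : j ≠ 0 := by rintro rfl; rw [mul_zero] at hj; omega
  have hβj : orderOf (β ^ j) = 5 ^ v := by
    rw [orderOf_pow_of_dvd hj0 (by rw [hj]; exact dvd_mul_left _ _), hj, Nat.mul_div_cancel _ (Nat.pos_of_ne_zero hj0)]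
  have hco : orderOf (MulAut.conj y : MulAut (PSU 5 F q)) = ℓ := by
    rw [orderOf_injective _ (conj_injective hZ), hyo]
  have hcomm : Commute (β ^ j) (MulAut.conj y) := (commute_of_fixed β hβy).pow_left j
  refine ⟨ℓ, v, w, hℓ, hℓ2, hℓq, hvw, hw, hv, β ^ j * MulAut.conj y, A.mul_mem (A.pow_mem hβA j) (hA ⟨_, rfl⟩), ?_⟩
  rw [hcomm.orderOf_mul_eq_mul_orderOf_of_coprime, hβj, hco]
  rw [hβj, hco]
  exact Nat.Coprime.pow_left _ ((Nat.coprime_primes (by norm_num) hℓ).2 (Ne.symm hℓ5))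

/-- **The determinant is a fifth power.** -/
theorem case_three [CharP F 2] (hF : Fintype.card F = q ^ 2)
    (hZ : Subgroup.center (PSU 5 F q) = ⊥) {B : GU 5 F q} (hodd : Odd (orderOf ρ))
    {A : Subgroup (MulAut (PSU 5 F q))} (hA : Inn 5 F q ≤ A) (hB : toAut B ρ ∈ A)
    {t : F} (ht : t * t ^ q = 1) (hδ : (gm B).det = t ^ 5) : ∃ a ∈ A, orderOf a = 8 * orderOf ρ := by
  have : Fintype ↥(fixf ρ) := Fintype.ofFinite _
  obtain ⟨s, hs2, hs, hqs, hpow⟩ := card_fix hF hodd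
  have : CharP ↥(fixf ρ) 2 := RingHom.charP (fixf ρ).subtype (fixf ρ).subtype.injective 2
  obtain ⟨u, hu⟩ := OrderEight.exists_orderOf_eight hs
  set X : SU 5 F q := embSU hF hpow u with hX
  have hXo : orderOf X = 2 ^ 3 := by
    rw [hX, orderOf_injective _ (embSU_injective hF hpow), hu]; norm_num
  set y : PSU 5 F q := pr 5 F q X with hy
  have hyo : orderOf y = 2 ^ 3 := CoverOdd.orderOf_pr_of_pow_two hF (by norm_num) hXo
  have hf2 : (f₂ ρ : MulAut (PSU 5 F q)) ∈ A := by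
    have h1 := inn_of_det ht hδ
    have h2 : (f₂ ρ : MulAut (PSU 5 F q)) = (f₁ B)⁻¹ * toAut B ρ := by rw [toAut_eq]; group
    rw [h2]
    exact A.mul_mem (A.inv_mem (hA h1)) hB
  have h1 : (f₂ ρ : MulAut (PSU 5 F q)) y = y :=
    (toAut_pr' 1 ρ X).trans (congrArg (pr 5 F q) (semiConj_embSU hF hpow _))
  have hinj : Function.Injective (f₂ : (F ≃+* F) →* MulAut (PSU 5 F q)) := by
    intro a b hab
    exact (eq_of_toAut_eq (A := 1) (A' := 1) hF (by norm_num) hab).1.symm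
  have ho : orderOf (f₂ ρ : MulAut (PSU 5 F q)) = orderOf ρ := orderOf_injective _ hinj ρ
  have hco : orderOf (MulAut.conj y : MulAut (PSU 5 F q)) = 2 ^ 3 := by
    rw [orderOf_injective _ (conj_injective hZ), hyo]
  refine ⟨MulAut.conj y * f₂ ρ, A.mul_mem (hA ⟨_, rfl⟩) hf2, ?_⟩
  have hcomm := (commute_of_fixed (f₂ ρ : MulAut (PSU 5 F q)) h1).symm
  rw [hcomm.orderOf_mul_eq_mul_orderOf_of_coprime, hco, ho]
  · norm_num
  · rw [hco, ho]
    exact Nat.Coprime.pow_left _ (Nat.coprime_two_left.2 hodd)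

/-- **Automorphisms.** A group of automorphisms of `PSU 5 F q`, `q` even, containing the inner automorphisms, all of whose
element orders are element orders of `PSU 5 F q`, consists of inner automorphisms. -/
theorem le_inner [CharP F 2] (hF : Fintype.card F = q ^ 2) (hq : Even q)
    (hZ : Subgroup.center (PSU 5 F q) = ⊥) {A : Subgroup (MulAut (PSU 5 F q))} (hA : Inn 5 F q ≤ A)
    (hω : ∀ a ∈ A, ∃ g : PSU 5 F q, orderOf g = orderOf a) : A ≤ Inn 5 F q := by
  have hq4 : Even (q ^ 2) := (Nat.even_pow).2 ⟨hq, by norm_num⟩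
  have hq44 : Even (q ^ 4) := (Nat.even_pow).2 ⟨hq, by norm_num⟩
  have hq2 := Cfsg.Agent.LieClassical.GUOrder.two_le hF
  have hpos : 1 ≤ q ^ 4 := Nat.one_le_pow _ _ (by omega)
  intro α hα
  obtain ⟨B, ρ, rfl⟩ := Cfsg.Agent.ClassicalGeometry.PSUAutMain.exists_toAut hF (by norm_num) (by omega) α
  rcases Nat.even_or_odd (orderOf ρ) with he | ho
  · -- even order
    exfalso
    obtain ⟨k, hk⟩ := he
    have hfin : Finite (F ≃+* F) :=
      Finite.of_injective (fun e : F ≃+* F => (e : F → F)) (fun a b h => RingEquiv.ext (congrFun h))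
    have hpos' := orderOf_pos ρ
    have hk0 : k ≠ 0 := by omega
    have h1 : orderOf (ρ ^ k) = 2 := by
      rw [orderOf_pow_of_dvd hk0 ⟨2, by omega⟩, hk]
      rw [show k + k = 2 * k by ring, Nat.mul_div_cancel _ (Nat.pos_of_ne_zero hk0)]
    obtain ⟨B', h2, -⟩ := exists_pow B ρ k
    have h3 : toAut B' (ρ ^ k) ∈ A := h2 ▸ A.pow_mem hα k
    obtain ⟨a, ha, hao⟩ := exists_of_order_two hF hq hZ h1 hA h3
    obtain ⟨g, hg⟩ := hω a ha
    obtain ⟨s, hs, hsd⟩ := Nat.exists_prime_and_dvd (n := q ^ 2 + 1) (by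
      have := Nat.one_le_pow 2 q (by omega); omega)
    have hs2 : s ≠ 2 := by
      rintro rfl
      obtain ⟨j, hj⟩ := hq4
      omega
    have h4 := Spec.order_four hF hs hs2 hsd g (by rw [hg, hao]; exact hsd.mul_left 2)
    have h5 : 2 ∣ q ^ 4 - 1 := by
      refine dvd_trans ?_ h4
      rw [hg, hao]
      exact (dvd_mul_right 2 _).mul_right _
    obtain ⟨j, hj⟩ := hq44
    omega
  · by_cases hδ : ∃ t : F, t * t ^ q = 1 ∧ (gm B).det = t ^ 5
    · obtain ⟨t, ht, hδ⟩ := hδ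
      obtain ⟨a, ha, hao⟩ := case_three hF hZ ho hA hα ht hδ
      obtain ⟨g, hg⟩ := hω a ha
      have h1 := Eight.order_eight hF g (by rw [hg, hao]; exact dvd_mul_right _ _)
      rw [hg, hao] at h1
      have h2 : orderOf ρ = 1 := by omega
      rw [orderOf_eq_one_iff] at h2
      subst h2
      exact inn_of_det ht hδ
    · exfalso
      obtain ⟨ℓ, v, w, hℓ, hℓ2, hℓq, hvw, hw, hv, a, ha, hao⟩ := case_two hF hq hZ ho hA hα hδ
      obtain ⟨g, hg⟩ := hω a ha
      have h4 := Spec.order_four hF hℓ hℓ2 hℓq g (by rw [hg, hao]; exact dvd_mul_left _ _)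
      have h5 : 5 ∣ q + 1 := by
        rw [hvw]; exact (dvd_pow_self 5 (by omega)).mul_right _
      rw [hg, hao, Nat.gcd_eq_left h5] at h4
      have h6 : 5 ^ (v + 1) ∣ q ^ 4 - 1 := by
        refine dvd_trans ?_ h4
        rw [pow_succ]
        exact ⟨ℓ, by ring⟩
      have e : q ^ 4 - 1 = (q ^ 2 + 1) * (q - 1) * (q + 1) := by
        have h7 := Nat.sq_sub_sq (q ^ 2) 1
        have h8 := Nat.sq_sub_sq q 1
        rw [one_pow, ← pow_mul] at h7
        rw [one_pow] at h8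
        rw [show q ^ 4 = q ^ (2 * 2) from rfl, h7, h8]; ring
      rw [e] at h6
      have h7 : Nat.Coprime (5 ^ (v + 1)) ((q ^ 2 + 1) * (q - 1)) := by
        apply Nat.Coprime.pow_left
        rw [Nat.Prime.coprime_iff_not_dvd (by norm_num), Nat.Prime.dvd_mul (by norm_num)]
        rintro (h8 | h8)
        · obtain ⟨x, hx⟩ := h5
          obtain ⟨y, hy⟩ := h8
          have h9 : (q : ℤ) = 5 * x - 1 := by omega
          have h10 : ((q : ℤ)) ^ 2 + 1 = 5 * y := by exact_mod_cast hy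
          rw [h9] at h10
          have h11 : (5 * x - 1 : ℤ) ^ 2 + 1 = 5 * (5 * x ^ 2 - 2 * x) + 2 := by ring
          rw [h11] at h10
          omega
        · omega
      have h8 := h7.dvd_of_dvd_mul_left h6
      rw [hvw, pow_succ] at h8
      exact hw (Nat.dvd_of_mul_dvd_mul_left (by positivity) h8)

end Main2

end Cfsg.Agent.H373.OuterOdd
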