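import Cfsg.Agent.Blocks.ModularTraces

/-!
# Fixed points of groups of odd order on modules in characteristic two (helper373)

Let `Γ` be a finite group and `T` a set of anti-automorphisms of `Γ`, any two of which differ by an inner
automorphism, such that every element of odd order is fixed by some member of `T`. Then for every nonzero
module `V` in characteristic two there is `τ ∈ T` such that every subgroup `X` of odd order inverted
elementwise by `τ` has a nonzero fixed vector on `V`.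
-/

set_option autoImplicit false

namespace Cfsg.Agent.H373.TraceLemma

open Module

universe u v w

/-- A nonzero finite-dimensional representation has an irreducible subrepresentation. -/
theorem exists_irreducible {k : Type v} [Field k] {Γ : Type u} [Group Γ] {V : Type w} [AddCommGroup V]
    [Module k V] [FiniteDimensional k V] [Nontrivial V] (ρ : Representation k Γ V) :
    ∃ W : Subrepresentation ρ, W.toRepresentation.IsIrreducible := by
  classical
  have hex : ∃ n : ℕ, ∃ W : Subrepresentation ρ, W.toSubmodule ≠ ⊥ ∧ finrank k W.toSubmodule = n :=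
    ⟨_, ⊤, by
      show (⊤ : Submodule k V) ≠ ⊥
      exact top_ne_bot, rfl⟩
  obtain ⟨W, hW, hn⟩ := Nat.find_spec hex
  refine ⟨W, ?_⟩
  have hmin : ∀ W' : Subrepresentation ρ, W'.toSubmodule ≠ ⊥ → finrank k W.toSubmodule ≤ finrank k W'.toSubmodule := by
    intro W' hW'
    rw [hn]
    exact Nat.find_min' hex ⟨W', hW', rfl⟩
  have hnt : Nontrivial W.toSubmodule := (Submodule.nontrivial_iff_ne_bot).2 hW
  refine { exists_pair_ne := ⟨⊥, ⊤, ?_⟩, eq_bot_or_eq_top := ?_ }
  · intro h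
    have h1 := congrArg Subrepresentation.toSubmodule h
    exact (bot_ne_top : (⊥ : Submodule k W.toSubmodule) ≠ ⊤) h1
  · intro Y
    by_cases hY : Y.toSubmodule = ⊥
    · left
      exact Subrepresentation.toSubmodule_injective hY
    · right
      apply Subrepresentation.toSubmodule_injective
      show Y.toSubmodule = ⊤
      let W' : Subrepresentation ρ :=
        { toSubmodule := Y.toSubmodule.map W.toSubmodule.subtype
          apply_mem_toSubmodule := by
            rintro g _ ⟨y, hy, rfl⟩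
            exact ⟨_, Y.apply_mem_toSubmodule g hy, rfl⟩ }
      have h1 : W'.toSubmodule ≠ ⊥ := by
        intro h
        apply hY
        rw [Submodule.eq_bot_iff]
        intro y hy
        have h2 : (y : V) ∈ W'.toSubmodule := ⟨y, hy, rfl⟩
        rw [h] at h2
        exact Subtype.ext ((Submodule.mem_bot k).1 h2)
      have h2 := hmin W' h1
      have h3 : finrank k W'.toSubmodule = finrank k Y.toSubmodule :=
        (LinearEquiv.finrank_eq (Submodule.equivMapOfInjective W.toSubmodule.subtype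
          (Submodule.subtype_injective _) Y.toSubmodule)).symm
      exact Submodule.eq_top_of_finrank_eq (le_antisymm (Submodule.finrank_le _) (h3 ▸ h2))

/-- The odd part of an element of a finite group. -/
theorem exists_parts {Γ : Type u} [Group Γ] [Finite Γ] (g : Γ) :
    ∃ (x y : Γ) (n m a b : ℕ), Commute x y ∧ g = x * y ∧ x ^ 2 ^ n = 1 ∧ Odd m ∧ y ^ m = 1 ∧ y = g ^ a ∧ x = g ^ b := by
  have h0 : orderOf g ≠ 0 := (orderOf_pos g).ne'
  obtain ⟨n, m, hm, hnm⟩ := Nat.exists_eq_two_pow_mul_odd h0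
  have hc : Nat.Coprime (2 ^ n) m := (Nat.Coprime.pow_left n (Nat.coprime_two_left.2 hm))
  obtain ⟨a, ha1, ha2⟩ := Nat.chineseRemainder hc 0 1
  obtain ⟨b, hb1, hb2⟩ := Nat.chineseRemainder hc 1 0
  refine ⟨g ^ b, g ^ a, n, m, a, b, (Commute.refl g).pow_pow _ _, ?_, ?_, hm, ?_, rfl, rfl⟩
  · rw [← pow_add]
    conv_lhs => rw [← pow_one g]
    rw [pow_eq_pow_iff_modEq, hnm]
    refine (Nat.modEq_and_modEq_iff_modEq_mul hc).1 ⟨?_, ?_⟩
    · exact (Nat.ModEq.add hb1 ha1).symm
    · exact (Nat.ModEq.add hb2 ha2).symm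
  · rw [← pow_mul]
    apply orderOf_dvd_iff_pow_eq_one.1
    rw [hnm, mul_comm b]
    exact Nat.mul_dvd_mul_left _ ((Nat.modEq_zero_iff_dvd).1 hb2)
  · rw [← pow_mul]
    apply orderOf_dvd_iff_pow_eq_one.1
    rw [hnm]
    exact Nat.mul_dvd_mul_right ((Nat.modEq_zero_iff_dvd).1 ha1) _

variable {Γ : Type u} [Group Γ] [Finite Γ] {k : Type v} [Field k] {V : Type w} [AddCommGroup V] [Module k V]

/-- The trace of an irreducible representation is invariant under `τ`. -/
theorem trace_tau [CharP k 2] [FiniteDimensional k V] (ρ : Representation k Γ V) (T : Set (Γ → Γ))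
    (hanti : ∀ τ ∈ T, ∀ g h, τ (g * h) = τ h * τ g)
    (hconj : ∀ τ ∈ T, ∀ τ' ∈ T, ∃ c : Γ, ∀ g, τ g = c * τ' g * c⁻¹)
    (hfix : ∀ (s : Γ) (m : ℕ), Odd m → s ^ m = 1 → ∃ τ ∈ T, τ s = s) :
    ∀ τ ∈ T, ∀ g, LinearMap.trace k V (ρ (τ g)) = LinearMap.trace k V (ρ g) := by
  have : Fact (Nat.Prime 2) := ⟨Nat.prime_two⟩
  intro τ hτ g
  have h1 : τ 1 = 1 := by
    have := hanti τ hτ 1 1
    rw [mul_one] at this
    exact left_eq_mul.1 this
  have hpow : ∀ (x : Γ) (i : ℕ), τ (x ^ i) = τ x ^ i := by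
    intro x i
    induction i with
    | zero => simp [h1]
    | succ i ih => rw [pow_succ, hanti τ hτ, ih, ← pow_succ']
  obtain ⟨x, y, n, m, a, b, hxy, hg, hx, hm, hy, hya, hxb⟩ := exists_parts g
  have e1 : LinearMap.trace k V (ρ g) = LinearMap.trace k V (ρ y) := by
    rw [hg]
    exact Cfsg.Agent.Blocks.ModularTraces.trace_eq_of_commute 2 ρ hxy hx
  have e2 : LinearMap.trace k V (ρ (τ g)) = LinearMap.trace k V (ρ (τ y)) := by
    have h2 : τ g = τ x * τ y := by
      rw [hg, hxy.eq, hanti τ hτ]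
    rw [h2]
    refine Cfsg.Agent.Blocks.ModularTraces.trace_eq_of_commute 2 ρ (?_ : Commute (τ x) (τ y)) (k := n) ?_
    · show τ x * τ y = τ y * τ x
      rw [← hanti τ hτ, ← hanti τ hτ, hxy.eq]
    · rw [← hpow, hx, h1]
  rw [e1, e2]
  obtain ⟨τ', hτ', hs⟩ := hfix y m hm hy
  obtain ⟨c, hc⟩ := hconj τ hτ τ' hτ'
  rw [hc y, hs, map_mul, LinearMap.trace_mul_comm, ← map_mul, ← mul_assoc, inv_mul_cancel, one_mul]

/-- **Main lemma, irreducible case.** -/
theorem norm_ne_zero_of_irreducible [IsAlgClosed k] [CharP k 2] [FiniteDimensional k V]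
    (ρ : Representation k Γ V) (hρ : ρ.IsIrreducible) (T : Set (Γ → Γ))
    (hanti : ∀ τ ∈ T, ∀ g h, τ (g * h) = τ h * τ g)
    (hconj : ∀ τ ∈ T, ∀ τ' ∈ T, ∃ c : Γ, ∀ g, τ g = c * τ' g * c⁻¹)
    (hfix : ∀ (s : Γ) (m : ℕ), Odd m → s ^ m = 1 → ∃ τ ∈ T, τ s = s) :
    ∃ τ ∈ T, ∀ (X : Subgroup Γ) [Fintype X], Odd (Nat.card X) → (∀ h ∈ X, τ h = h⁻¹) →
      ∑ h : X, ρ (h : Γ) ≠ 0 := by
  classical
  have : Fact (Nat.Prime 2) := ⟨Nat.prime_two⟩
  -- an element of nonzero trace
  have h1 : ∃ g : Γ, LinearMap.trace k V (ρ g) ≠ 0 := by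
    have h2 := Cfsg.Agent.Blocks.ModularTraces.linearIndependent_trace (F := k) (G := Γ) (ι := Unit)
      (V := fun _ => V) (fun _ => ρ) (fun _ => hρ) (fun i j hij => absurd (Subsingleton.elim i j) hij)
    have h3 := h2.ne_zero ()
    by_contra hcon
    push Not at hcon
    exact h3 (funext fun g => hcon g)
  obtain ⟨g, hg⟩ := h1
  obtain ⟨x, y, n, m, a, b, hxy, hgxy, hx, hm, hy, hya, hxb⟩ := exists_parts g
  have e1 : LinearMap.trace k V (ρ g) = LinearMap.trace k V (ρ y) := by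
    rw [hgxy]
    exact Cfsg.Agent.Blocks.ModularTraces.trace_eq_of_commute 2 ρ hxy hx
  obtain ⟨τ, hτ, hs⟩ := hfix y m hm hy
  refine ⟨τ, hτ, ?_⟩
  intro X _ hX hinv h0
  have htr := trace_tau ρ T hanti hconj hfix τ hτ
  -- the trace of `y * h` is symmetric in `h`
  have hsym : ∀ h : X, LinearMap.trace k V (ρ (y * ((h⁻¹ : X) : Γ))) = LinearMap.trace k V (ρ (y * (h : Γ))) := by
    intro h
    rw [← htr (y * (h : Γ)), hanti τ hτ, hs, hinv _ h.2, Subgroup.coe_inv, map_mul ρ, map_mul ρ,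
      LinearMap.trace_mul_comm]
  have hsum : ∑ h : X, LinearMap.trace k V (ρ (y * (h : Γ))) = LinearMap.trace k V (ρ y) := by
    rw [← Finset.add_sum_erase Finset.univ _ (Finset.mem_univ (1 : X))]
    have h3 : ∑ h ∈ Finset.univ.erase (1 : X), LinearMap.trace k V (ρ (y * (h : Γ))) = 0 := by
      refine Finset.sum_involution (fun h _ => h⁻¹) ?_ ?_ ?_ ?_
      · intro h hh
        rw [hsym h]
        exact CharTwo.add_self_eq_zero _
      · intro h hh _ heq
        have h4 : h * h = 1 := by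
          nth_rewrite 2 [← heq]
          exact mul_inv_cancel h
        have h5 : orderOf h ∣ 2 := orderOf_dvd_of_pow_eq_one (by rw [pow_two]; exact h4)
        have h6 : orderOf h ∣ Nat.card X := orderOf_dvd_natCard h
        have h7 : orderOf h ∣ 1 := by
          have := Nat.dvd_gcd h5 h6
          rwa [Nat.Coprime.gcd_eq_one (Nat.coprime_two_left.2 hX)] at this
        have h8 : h = 1 := orderOf_eq_one_iff.1 (Nat.dvd_one.1 h7)
        exact (Finset.ne_of_mem_erase hh) h8
      · intro h hh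
        refine Finset.mem_erase.2 ⟨?_, Finset.mem_univ _⟩
        intro h4
        exact (Finset.ne_of_mem_erase hh) (inv_eq_one.1 h4)
      · intro h hh
        exact inv_inv h
    rw [h3, add_zero]
    simp
  have hfin : LinearMap.trace k V (ρ y * ∑ h : X, ρ (h : Γ)) = LinearMap.trace k V (ρ y) := by
    rw [Finset.mul_sum, map_sum, ← hsum]
    refine Finset.sum_congr rfl fun h _ => ?_
    rw [map_mul ρ]
  rw [h0, mul_zero, map_zero] at hfin
  exact hg (e1.trans hfin.symm)

/-- **Main lemma.** -/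
theorem norm_ne_zero [IsAlgClosed k] [CharP k 2] [FiniteDimensional k V] [Nontrivial V]
    (ρ : Representation k Γ V) (T : Set (Γ → Γ))
    (hanti : ∀ τ ∈ T, ∀ g h, τ (g * h) = τ h * τ g)
    (hconj : ∀ τ ∈ T, ∀ τ' ∈ T, ∃ c : Γ, ∀ g, τ g = c * τ' g * c⁻¹)
    (hfix : ∀ (s : Γ) (m : ℕ), Odd m → s ^ m = 1 → ∃ τ ∈ T, τ s = s) :
    ∃ τ ∈ T, ∀ (X : Subgroup Γ) [Fintype X], Odd (Nat.card X) → (∀ h ∈ X, τ h = h⁻¹) →
      ∑ h : X, ρ (h : Γ) ≠ 0 := by
  obtain ⟨W, hW⟩ := exists_irreducible ρ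
  obtain ⟨τ, hτ, h⟩ := norm_ne_zero_of_irreducible W.toRepresentation hW T hanti hconj hfix
  refine ⟨τ, hτ, ?_⟩
  intro X _ hX hinv h0
  apply h X hX hinv
  ext w
  have h1 := LinearMap.congr_fun h0 (w : V)
  simp only [LinearMap.sum_apply, LinearMap.zero_apply] at h1 ⊢
  rw [AddSubmonoidClass.coe_finsetSum]
  exact h1

/-- **Main lemma over the prime field.** -/
theorem exists_fixed {V : Type w} [AddCommGroup V] [Finite V] [Nontrivial V] (h2 : ∀ v : V, v + v = 0)
    (φ : Γ →* AddMonoid.End V) (T : Set (Γ → Γ))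
    (hanti : ∀ τ ∈ T, ∀ g h, τ (g * h) = τ h * τ g)
    (hconj : ∀ τ ∈ T, ∀ τ' ∈ T, ∃ c : Γ, ∀ g, τ g = c * τ' g * c⁻¹)
    (hfix : ∀ (s : Γ) (m : ℕ), Odd m → s ^ m = 1 → ∃ τ ∈ T, τ s = s) :
    ∃ τ ∈ T, ∀ (X : Subgroup Γ), Odd (Nat.card X) → (∀ h ∈ X, τ h = h⁻¹) →
      ∃ v : V, v ≠ 0 ∧ ∀ h ∈ X, φ h v = v := by
  classical
  let _ : Module (ZMod 2) V := AddCommGroup.zmodModule (n := 2) (fun v => by rw [two_nsmul]; exact h2 v)
  let ρ : Representation (ZMod 2) Γ V :=
    { toFun := fun g => (φ g : V →+ V).toZModLinearMap 2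
      map_one' := by rw [map_one]; rfl
      map_mul' := fun a b => by rw [map_mul]; rfl }
  have hρ : ∀ g v, ρ g v = φ g v := fun g v => rfl
  let k := AlgebraicClosure (ZMod 2)
  have : CharP k 2 := charP_of_injective_algebraMap (algebraMap (ZMod 2) k).injective 2
  let ρk : Representation k Γ (TensorProduct (ZMod 2) k V) :=
    { toFun := fun g => (ρ g).baseChange k
      map_one' := by rw [map_one]; exact LinearMap.baseChange_id
      map_mul' := fun a b => by rw [map_mul]; exact LinearMap.baseChange_mul _ _ }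
  have : FiniteDimensional (ZMod 2) V := Module.Finite.of_finite
  have hnt : Nontrivial (TensorProduct (ZMod 2) k V) := by
    have h3 : 0 < finrank k (TensorProduct (ZMod 2) k V) := by
      rw [Module.finrank_baseChange]
      exact finrank_pos
    exact nontrivial_of_finrank_pos h3
  obtain ⟨τ, hτ, h⟩ := norm_ne_zero ρk T hanti hconj hfix
  refine ⟨τ, hτ, ?_⟩
  intro X hX hinv
  have : Fintype X := Fintype.ofFinite X
  have h4 := h X hX hinv
  have h5 : ∑ h : X, ρ (h : Γ) ≠ 0 := by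
    intro h6
    apply h4
    have h7 : ∑ h : X, ρk (h : Γ) = (∑ h : X, ρ (h : Γ)).baseChange k := by
      rw [← LinearMap.baseChangeHom_apply, map_sum]
      rfl
    rw [h7, h6, LinearMap.baseChange_zero]
  obtain ⟨v, hv⟩ : ∃ v, (∑ h : X, ρ (h : Γ)) v ≠ 0 := by
    by_contra hcon
    push Not at hcon
    exact h5 (LinearMap.ext hcon)
  refine ⟨_, hv, ?_⟩
  intro h hh
  rw [← hρ, LinearMap.sum_apply, map_sum]
  refine Fintype.sum_equiv (Equiv.mulLeft (⟨h, hh⟩ : X)) _ _ ?_
  intro x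
  rw [← Module.End.mul_apply, ← map_mul]
  rfl

end Cfsg.Agent.H373.TraceLemma
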